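import Groth.Agent.AlgSp.K598.Site
import Groth.Prelude.Def_AlgSp3

/-!
# Representable morphisms of sheaves: squares, monomorphisms, algebraic spaces

* `exists_isPullback_of_comp`: comparison of represented pullbacks along `h_φ ≫ g` and `g`.
* `mono_of_repWith`: representable with monomorphic pullbacks implies monomorphism.
* `representable_of_mono_comp`: `g : h_U ⟶ Z` is representable when `g ≫ i` is, `i : Z ⟶ Y` mono.
* `isAlgSpace_of_mono`: a subsheaf representable over an algebraic space is an algebraic space.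
* `isPullback_of_mono_test`: test for cartesian squares between monomorphisms.
* `repWith_of_isPullback`, chart manipulation.
-/

set_option autoImplicit false
universe u
open CategoryTheory CategoryTheory.Limits AlgebraicGeometry Opposite
open AlgSp K598.Site

namespace K598.RepKit

variable {S : Scheme.{u}} {F G H X Y Z W : Sp S}

theorem forget_isPullback {U V T W : Over S} {a : U ⟶ V} {b : U ⟶ T} {f : V ⟶ W} {g : T ⟶ W}
    (h : IsPullback a b f g) : IsPullback a.left b.left f.left g.left := h.map (Over.forget S)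

theorem isPullback_of_yon {U V T W : Over S} {a : U ⟶ V} {b : U ⟶ T} {f : V ⟶ W} {g : T ⟶ W}
    (h : IsPullback ((yon S).map a) ((yon S).map b) ((yon S).map f) ((yon S).map g)) : IsPullback a b f g :=
  IsPullback.of_map (yon S) ((yon S).map_injective (by simpa using h.w)) h

theorem yon_isPullback {U V T W : Over S} {a : U ⟶ V} {b : U ⟶ T} {f : V ⟶ W} {g : T ⟶ W}
    (h : IsPullback a b f g) : IsPullback ((yon S).map a) ((yon S).map b) ((yon S).map f) ((yon S).map g) :=
  h.map (yon S)

/-- A pullback square of schemes over `S`, from a pullback square of schemes. -/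
theorem over_isPullback {U V T W : Over S} {a : U ⟶ V} {b : U ⟶ T} {f : V ⟶ W} {g : T ⟶ W}
    (h : IsPullback a.left b.left f.left g.left) : IsPullback a b f g :=
  IsPullback.of_map (Over.forget S) (Over.OverMorphism.ext h.w) h

/-- Comparison of the represented pullbacks of `f` along `h_φ ≫ g` and along `g`. -/
theorem exists_isPullback_of_comp {f : F ⟶ G} {T T' V V' : Over S} {g : (yon S).obj T ⟶ G} {φ : T' ⟶ T}
    {fst : (yon S).obj V ⟶ F} {snd : V ⟶ T} (sq : IsPullback fst ((yon S).map snd) f g)
    {fst' : (yon S).obj V' ⟶ F} {snd' : V' ⟶ T'} (sq' : IsPullback fst' ((yon S).map snd') f ((yon S).map φ ≫ g)) :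
    ∃ ψ : V' ⟶ V, (yon S).map ψ ≫ fst = fst' ∧ IsPullback ψ snd' snd φ := by
  obtain ⟨ψ, hψ⟩ := (yon S).map_surjective (sq.lift fst' ((yon S).map (snd' ≫ φ)) (by
    rw [sq'.w, Functor.map_comp, Category.assoc]))
  have h1 : (yon S).map ψ ≫ fst = fst' := by rw [hψ, IsPullback.lift_fst]
  have h2 : (yon S).map ψ ≫ (yon S).map snd = (yon S).map snd' ≫ (yon S).map φ := by
    rw [hψ, IsPullback.lift_snd, Functor.map_comp]
  refine ⟨ψ, h1, isPullback_of_yon (IsPullback.of_right ?_ h2 sq)⟩
  rw [h1]
  exact sq'

/-- A represented pullback along `h_φ ≫ g` from one along `g`. -/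
theorem isPullback_comp {f : F ⟶ G} {T T' V V' : Over S} {g : (yon S).obj T ⟶ G} {φ : T' ⟶ T}
    {fst : (yon S).obj V ⟶ F} {snd : V ⟶ T} (sq : IsPullback fst ((yon S).map snd) f g)
    {ψ : V' ⟶ V} {snd' : V' ⟶ T'} (h : IsPullback ψ snd' snd φ) :
    IsPullback ((yon S).map ψ ≫ fst) ((yon S).map snd') f ((yon S).map φ ≫ g) :=
  (yon_isPullback h).paste_horiz sq

/-- Maps from schemes to a representable monomorphism. -/
theorem mono_of_repWith_mono {P : MorphismProperty Scheme.{u}} (hP : P ≤ MorphismProperty.monomorphisms _)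
    {f : F ⟶ G} (hf : RepWith P f) : Mono f := by
  refine mono_of_yon fun T g g' h => ?_
  have sq := hf.1.isPullback (g ≫ f)
  have hm : Mono (hf.1.snd (g ≫ f)).left := hP _ (hf.2 _ _ _ sq)
  have hm' : Mono (hf.1.snd (g ≫ f)) := (Over.forget S).mono_of_mono_map hm
  have e : hf.1.lift (g := g ≫ f) g (𝟙 T) (by simp) = hf.1.lift (g := g ≫ f) g' (𝟙 T) (by simp [h]) := by
    rw [← cancel_mono (hf.1.snd (g ≫ f)), hf.1.lift_snd, hf.1.lift_snd]
  rw [← hf.1.lift_fst (g := g ≫ f) g (𝟙 T) (by simp), e, hf.1.lift_fst]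

theorem mono_of_repWith_isClosedImmersion {f : F ⟶ G} (hf : RepWith @IsClosedImmersion f) : Mono f :=
  mono_of_repWith_mono (fun _ _ g h => by have := h; exact (inferInstance : Mono g)) hf

theorem mono_of_repWith_isOpenImmersion {f : F ⟶ G} (hf : RepWith @IsOpenImmersion f) : Mono f :=
  mono_of_repWith_mono (fun _ _ g h => by have := h; exact (inferInstance : Mono g)) hf

theorem mono_of_repWith_isImmersion {f : F ⟶ G} (hf : RepWith @IsImmersion f) : Mono f :=
  mono_of_repWith_mono (fun _ _ g h => by have := h; exact (inferInstance : Mono g)) hf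

/-- Monotonicity of `RepWith`. -/
theorem repWith_mono {P Q : MorphismProperty Scheme.{u}} (h : P ≤ Q) {f : F ⟶ G} (hf : RepWith P f) :
    RepWith Q f := MorphismProperty.relative_monotone (fun _ _ _ h' => h _ h') _ hf

theorem repWith_inf {P Q : MorphismProperty Scheme.{u}} {f : F ⟶ G} (hf : RepWith P f) (hf' : RepWith Q f) :
    RepWith (P ⊓ Q) f := ⟨hf.1, fun _ _ _ _ _ sq => ⟨hf.2 _ _ _ sq, hf'.2 _ _ _ sq⟩⟩

/-- The base change of a morphism with `P`. -/
theorem repWith_of_isPullback {P : MorphismProperty Scheme.{u}} {fst : X ⟶ Y} {snd : X ⟶ Z} {f : Y ⟶ W}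
    {g : Z ⟶ W} (sq : IsPullback fst snd f g) (hf : RepWith P f) : RepWith P snd :=
  MorphismProperty.of_isPullback sq hf

/-- Isomorphisms are representable with every property containing identities. -/
theorem repWith_of_isIso {P : MorphismProperty Scheme.{u}} [P.IsStableUnderBaseChange] [P.IsMultiplicative]
    (f : F ⟶ G) [IsIso f] : RepWith P f := by
  have : P.RespectsIso := MorphismProperty.IsStableUnderBaseChange.respectsIso
  refine ⟨Functor.relativelyRepresentable.of_isIso _ f, fun U V g fst snd sq => ?_⟩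
  have h1 : IsIso ((yon S).map snd) := sq.isIso_snd_of_isIso
  have h2 : IsIso snd := isIso_of_reflects_iso snd (yon S)
  have h3 : IsIso snd.left := inferInstanceAs (IsIso ((Over.forget S).map snd))
  exact MorphismProperty.of_isIso P snd.left

/-- A map `h_U ⟶ Z` is representable if its composite with a monomorphism is. -/
theorem representable_of_comp_mono {i : Z ⟶ Y} [Mono i] {U : Over S} (g : (yon S).obj U ⟶ Z)
    (h : Representable (g ≫ i)) : Representable g := by
  intro T g'
  obtain ⟨V, snd, fst, sq⟩ := h (g' ≫ i)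
  refine ⟨V, snd, fst, ?_⟩
  have h1 : fst ≫ g = (yon S).map snd ≫ g' := by
    rw [← cancel_mono i, Category.assoc, Category.assoc]
    exact sq.w
  refine ⟨⟨h1⟩, ⟨PullbackCone.IsLimit.mk h1 (fun s => sq.lift s.fst s.snd ?_) ?_ ?_ ?_⟩⟩
  · rw [← Category.assoc, ← Category.assoc, s.condition]
  · intro s
    exact sq.lift_fst _ _ _
  · intro s
    exact sq.lift_snd _ _ _
  · intro s m h2 h3
    exact sq.hom_ext (by rw [h2, sq.lift_fst]) (by rw [h3, sq.lift_snd])

/-- A subsheaf of an algebraic space whose inclusion is representable is an algebraic space. -/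
theorem isAlgSpace_of_mono {i : Z ⟶ Y} [Mono i] (hi : Representable i) (hY : IsAlgSpace Y) : IsAlgSpace Z where
  diag := Functor.relativelyRepresentable.diag_of_map_from_obj fun U g =>
    representable_of_comp_mono g (hY.representable_from_yon (g ≫ i))
  atlas := by
    obtain ⟨U, p, h1, h2⟩ := hY.atlas
    exact ⟨hi.pullback p, hi.fst p, repWith_of_isPullback (hi.isPullback p).flip h1,
      repWith_of_isPullback (hi.isPullback p).flip h2⟩

theorem isAlgSpace_of_repWith_isClosedImmersion {i : Z ⟶ Y} (hi : RepWith @IsClosedImmersion i)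
    (hY : IsAlgSpace Y) : IsAlgSpace Z :=
  have := mono_of_repWith_isClosedImmersion hi
  isAlgSpace_of_mono hi.1 hY

theorem isAlgSpace_of_repWith_isOpenImmersion {i : Z ⟶ Y} (hi : RepWith @IsOpenImmersion i)
    (hY : IsAlgSpace Y) : IsAlgSpace Z :=
  have := mono_of_repWith_isOpenImmersion hi
  isAlgSpace_of_mono hi.1 hY

/-- A test for cartesian squares between monomorphisms. -/
theorem isPullback_of_mono_test {i : Z ⟶ Y} [Mono i] {j : W ⟶ G} [Mono j] {fst : W ⟶ Z} {g : G ⟶ Y}
    (w : fst ≫ i = j ≫ g)
    (h : ∀ (T : Over S) (b : (yon S).obj T ⟶ G), (∃ a, a ≫ i = b ≫ g) → ∃ c, c ≫ j = b) :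
    IsPullback fst j i g := by
  have key : ∀ s : PullbackCone i g, ∃ c, c ≫ j = s.snd := by
    intro s
    refine (factors_mono_iff s.snd).2 fun T x => h T _ ⟨x ≫ s.fst, ?_⟩
    rw [Category.assoc, s.condition, Category.assoc]
  choose c hc using key
  refine ⟨⟨w⟩, ⟨PullbackCone.IsLimit.mk w c (fun s => ?_) hc fun s m _ h3 => ?_⟩⟩
  · rw [← cancel_mono i, Category.assoc, w, ← Category.assoc, hc, s.condition]
  · rw [← cancel_mono j, h3, hc]

/-- A general test for cartesian squares of sheaves on maps from schemes. -/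
theorem isPullback_of_yon_test {P : Sp S} {a : P ⟶ X} {b : P ⟶ Y} {f : X ⟶ Z} {g : Y ⟶ Z}
    (w : a ≫ f = b ≫ g)
    (h : ∀ (T : Over S) (x : (yon S).obj T ⟶ X) (y : (yon S).obj T ⟶ Y), x ≫ f = y ≫ g →
      ∃! c, c ≫ a = x ∧ c ≫ b = y) : IsPullback a b f g := by
  have h2 : IsIso (pullback.lift a b w) := by
    have hb : ∀ T : Over S, Function.Bijective ((pullback.lift a b w).hom.app (op T)) := by
      intro T
      constructor
      · intro x y hxy
        have e : yE.symm x ≫ pullback.lift a b w = yE.symm y ≫ pullback.lift a b w := by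
          rw [yE_symm_comp, yE_symm_comp, hxy]
        have e1 : yE.symm x ≫ a = yE.symm y ≫ a := by
          have := congrArg (· ≫ pullback.fst f g) e
          rwa [Category.assoc, Category.assoc, pullback.lift_fst] at this
        have e2 : yE.symm x ≫ b = yE.symm y ≫ b := by
          have := congrArg (· ≫ pullback.snd f g) e
          rwa [Category.assoc, Category.assoc, pullback.lift_snd] at this
        have e3 := (h T (yE.symm x ≫ a) (yE.symm x ≫ b) (by
          rw [Category.assoc, Category.assoc, w])).unique ⟨rfl, rfl⟩ ⟨e1.symm, e2.symm⟩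
        exact yE.symm.injective e3
      · intro y
        obtain ⟨c, ⟨hc1, hc2⟩, -⟩ := h T (yE.symm y ≫ pullback.fst f g) (yE.symm y ≫ pullback.snd f g) (by
          rw [Category.assoc, Category.assoc, pullback.condition])
        refine ⟨yE c, ?_⟩
        rw [← yE_comp]
        have : c ≫ pullback.lift a b w = yE.symm y := by
          apply pullback.hom_ext
          · rw [Category.assoc, pullback.lift_fst, hc1]
          · rw [Category.assoc, pullback.lift_snd, hc2]
        rw [this, Equiv.apply_symm_apply]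
    have h3 : ∀ X, IsIso ((pullback.lift a b w).hom.app X) := fun X => by
      rw [isIso_iff_bijective]
      exact hb X.unop
    have h4 : IsIso (pullback.lift a b w).hom := NatIso.isIso_of_isIso_app _
    have h5 : IsIso ((sheafToPresheaf (J S) (Type (u + 1))).map (pullback.lift a b w)) := h4
    exact isIso_of_reflects_iso (pullback.lift a b w) (sheafToPresheaf (J S) _)
  exact IsPullback.of_iso_pullback ⟨w⟩ (asIso (pullback.lift a b w)) (pullback.lift_fst _ _ _)
    (pullback.lift_snd _ _ _)

end K598.RepKit
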