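import Groth.Prelude.Def_AlgSp
import Mathlib.CategoryTheory.Sites.Subsheaf

/-!
# The big fppf site: covering sieves, subsheaves given by a local property of maps `h_T ⟶ F`

* `exists_family_of_mem`: a covering sieve of `T` contains a family of flat, locally finitely presented morphisms
  `T_t ⟶ T`, jointly surjective, indexed by the points of `T`.
* `mem_J_of_family`, `mem_J_of_single`: conversely.
* `SubQ`: a property of maps `h_T ⟶ F` stable under restriction and local for the topology, `SubQ.sheaf`, `SubQ.ι`,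
  `SubQ.factors_iff`, `SubQ.isPullback`.
-/

set_option autoImplicit false
universe u
open CategoryTheory CategoryTheory.Limits AlgebraicGeometry Opposite
open AlgSp

namespace K598.Site

variable {S : Scheme.{u}}

/-- The Yoneda lemma: maps `h_T ⟶ F` are sections of `F` over `T`. -/
noncomputable def yE {T : Over S} {F : Sp S} : ((yon S).obj T ⟶ F) ≃ F.obj.obj (op T) :=
  (J S).uliftYonedaEquiv

theorem yE_map_comp {T T' : Over S} {F : Sp S} (φ : T' ⟶ T) (g : (yon S).obj T ⟶ F) :
    yE ((yon S).map φ ≫ g) = F.obj.map φ.op (yE g) :=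
  ((J S).uliftYonedaEquiv_naturality g φ).symm

theorem yE_comp {T : Over S} {F G : Sp S} (g : (yon S).obj T ⟶ F) (f : F ⟶ G) :
    yE (g ≫ f) = f.hom.app (op T) (yE g) :=
  (J S).uliftYonedaEquiv_comp g f

theorem map_comp_yE_symm {T T' : Over S} {F : Sp S} (φ : T' ⟶ T) (x : F.obj.obj (op T)) :
    (yon S).map φ ≫ yE.symm x = yE.symm (F.obj.map φ.op x) := by
  apply yE.injective
  rw [yE_map_comp, Equiv.apply_symm_apply, Equiv.apply_symm_apply]

theorem yE_symm_comp {T : Over S} {F G : Sp S} (x : F.obj.obj (op T)) (f : F ⟶ G) :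
    yE.symm x ≫ f = yE.symm (f.hom.app (op T) x) := by
  apply yE.injective
  rw [yE_comp, Equiv.apply_symm_apply, Equiv.apply_symm_apply]

theorem hasIsos_fppf : (Scheme.fppfPrecoverage.{u}).HasIsos := by
  have h1 : ((@Flat ⊓ @LocallyOfFinitePresentation : MorphismProperty Scheme.{u})).ContainsIdentities :=
    ⟨fun X => ⟨inferInstance, inferInstance⟩⟩
  have h2 : ((@Flat ⊓ @LocallyOfFinitePresentation : MorphismProperty Scheme.{u})).RespectsIso :=
    MorphismProperty.RespectsIso.mk _ (fun e f hf => ⟨(MorphismProperty.cancel_left_of_respectsIso @Flat _ _).2 hf.1,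
      (MorphismProperty.cancel_left_of_respectsIso @LocallyOfFinitePresentation _ _).2 hf.2⟩)
      (fun e f hf => ⟨(MorphismProperty.cancel_right_of_respectsIso @Flat _ _).2 hf.1,
      (MorphismProperty.cancel_right_of_respectsIso @LocallyOfFinitePresentation _ _).2 hf.2⟩)
  exact inferInstanceAs (Scheme.precoverage (@Flat ⊓ @LocallyOfFinitePresentation)).HasIsos

/-- Covering sieves of the fppf topology on schemes. -/
theorem mem_fppf_iff {X : Scheme.{u}} {R : Sieve X} :
    R ∈ Scheme.fppfTopology X ↔ ∃ R' ∈ Scheme.fppfPrecoverage X, R' ≤ R.arrows := by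
  have := hasIsos_fppf.{u}
  exact Precoverage.mem_toGrothendieck_iff_of_isStableUnderComposition

/-- A covering sieve contains a jointly surjective family of flat, locally finitely presented morphisms. -/
theorem exists_family_of_mem {T : Over S} {R : Sieve T} (hR : R ∈ J S T) :
    ∃ (T' : ↥T.left → Over S) (q : ∀ t, T' t ⟶ T), (∀ t, R (q t)) ∧ (∀ t, Flat (q t).left) ∧
      (∀ t, LocallyOfFinitePresentation (q t).left) ∧ ∀ t, t ∈ Set.range (q t).left := by
  rw [AlgSp.J_eq, GrothendieckTopology.mem_over_iff] at hR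
  obtain ⟨R', hR', hle⟩ := mem_fppf_iff.1 hR
  have key : ∀ t : ↥T.left, ∃ (Y : Scheme.{u}) (f : Y ⟶ T.left), R' f ∧ t ∈ Set.range f := by
    intro t
    obtain ⟨Y, g, hg, hx⟩ := hR'.1 t
    cases hg with
    | of hf => exact ⟨_, _, hf, hx⟩
  choose Y f hf hx using key
  refine ⟨fun t => Over.mk (f t ≫ T.hom), fun t => Over.homMk (f t), fun t => ?_, fun t => ?_, fun t => ?_, hx⟩
  · exact (Sieve.overEquiv_iff R (f t)).1 (hle _ _ (hf t))
  · exact (hR'.2 (hf t)).1
  · exact (hR'.2 (hf t)).2

/-- A sieve containing a jointly surjective family of flat, locally finitely presented morphisms is covering. -/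
theorem mem_J_of_family {T : Over S} {R : Sieve T} {ι : Type*} (T' : ι → Over S) (q : ∀ i, T' i ⟶ T)
    (hR : ∀ i, R (q i)) (h1 : ∀ i, Flat (q i).left) (h2 : ∀ i, LocallyOfFinitePresentation (q i).left)
    (h3 : ∀ t : ↥T.left, ∃ i, t ∈ Set.range (q i).left) : R ∈ J S T := by
  rw [AlgSp.J_eq, GrothendieckTopology.mem_over_iff]
  refine mem_fppf_iff.2 ⟨Presieve.ofArrows (fun i => (T' i).left) (fun i => (q i).left), ?_, ?_⟩
  · exact (Scheme.ofArrows_mem_precoverage_iff _).2 ⟨h3, fun i => ⟨h1 i, h2 i⟩⟩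
  · rintro _ _ ⟨i⟩
    refine (Sieve.overEquiv_iff R (q i).left).2 ?_
    have h := R.downward_closed (hR i)
      (Over.homMk (𝟙 _) (by simp) : Over.mk ((q i).left ≫ T.hom) ⟶ T' i)
    convert h using 1
    ext
    simp

theorem mem_J_of_single {T T' : Over S} {R : Sieve T} (q : T' ⟶ T) (hR : R q) [Flat q.left]
    [LocallyOfFinitePresentation q.left] [Surjective q.left] : R ∈ J S T :=
  mem_J_of_family (ι := PUnit.{1}) (fun _ => T') (fun _ => q) (fun _ => hR) (fun _ => inferInstance)
    (fun _ => inferInstance) fun t => ⟨PUnit.unit, q.left.surjective t⟩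

variable {F G H : Sp S}

/-- Morphisms of sheaves can be compared on maps from schemes. -/
theorem hom_ext_yon {a b : F ⟶ G} (h : ∀ (T : Over S) (g : (yon S).obj T ⟶ F), g ≫ a = g ≫ b) : a = b :=
  (J S).hom_ext_uliftYoneda h

theorem mono_of_yon {a : F ⟶ G}
    (h : ∀ (T : Over S) (g g' : (yon S).obj T ⟶ F), g ≫ a = g' ≫ a → g = g') : Mono a :=
  ⟨fun x y hxy => hom_ext_yon fun T g => h T _ _ (by rw [Category.assoc, Category.assoc, hxy])⟩

/-- Maps `h_T ⟶ F` are equal when they agree on a covering sieve. -/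
theorem hom_ext_sieve {T : Over S} {R : Sieve T} (hR : R ∈ J S T) {a b : (yon S).obj T ⟶ F}
    (h : ∀ (T' : Over S) (φ : T' ⟶ T), R φ → (yon S).map φ ≫ a = (yon S).map φ ≫ b) : a = b := by
  apply yE.injective
  have hF := ((isSheaf_iff_isSheaf_of_type (J S) F.obj).1 F.property).isSeparated R hR
  refine hF.ext fun T' φ hφ => ?_
  rw [← yE_map_comp, ← yE_map_comp, h T' φ hφ]

/-- A property of maps `h_T ⟶ F` which is stable under restriction and local for the fppf topology. -/
structure SubQ (F : Sp S) where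
  /-- the property -/
  Q : ∀ {T : Over S}, ((yon S).obj T ⟶ F) → Prop
  comp : ∀ {T T' : Over S} (φ : T' ⟶ T) (g : (yon S).obj T ⟶ F), Q g → Q ((yon S).map φ ≫ g)
  loc : ∀ {T : Over S} (g : (yon S).obj T ⟶ F) (R : Sieve T), R ∈ J S T →
    (∀ (T' : Over S) (φ : T' ⟶ T), R φ → Q ((yon S).map φ ≫ g)) → Q g

namespace SubQ

variable (q : SubQ F)

/-- The subfunctor of sections whose associated map satisfies the property. -/
def sub : Subfunctor F.obj where
  obj T := {x | q.Q (T := T.unop) (yE.symm x)}
  map {U V} i x hx := by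
    change q.Q (yE.symm (F.obj.map i.unop.op x))
    rw [← map_comp_yE_symm]
    exact q.comp _ _ hx

theorem sub_isSheaf : Presieve.IsSheaf (J S) q.sub.toFunctor := by
  rw [Subfunctor.isSheaf_iff _ ((isSheaf_iff_isSheaf_of_type (J S) F.obj).1 F.property)]
  intro U s hs
  refine q.loc _ _ hs fun T' φ hφ => ?_
  rw [map_comp_yE_symm]
  exact hφ

/-- The subsheaf of maps with the property. -/
def sheaf : Sp S := ⟨q.sub.toFunctor, (isSheaf_iff_isSheaf_of_type _ _).2 q.sub_isSheaf⟩

/-- Its inclusion. -/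
def ι : q.sheaf ⟶ F := ⟨q.sub.ι⟩

theorem ι_injective (T : Over S) : Function.Injective (q.ι.hom.app (op T)) := Subtype.val_injective

instance mono_ι : Mono q.ι := mono_of_yon fun T g g' h => by
  apply yE.injective
  apply q.ι_injective
  rw [← yE_comp, ← yE_comp, h]

/-- A map `h_T ⟶ F` with the property factors through the subsheaf. -/
noncomputable def lift {T : Over S} (g : (yon S).obj T ⟶ F) (hg : q.Q g) : (yon S).obj T ⟶ q.sheaf :=
  yE.symm ⟨yE g, by
    change q.Q (yE.symm (yE g))
    rwa [Equiv.symm_apply_apply]⟩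

@[reassoc (attr := simp)]
theorem lift_ι {T : Over S} (g : (yon S).obj T ⟶ F) (hg : q.Q g) : q.lift g hg ≫ q.ι = g := by
  rw [lift, yE_symm_comp]
  change yE.symm (yE g) = g
  rw [Equiv.symm_apply_apply]

theorem q_comp_ι {T : Over S} (g : (yon S).obj T ⟶ q.sheaf) : q.Q (g ≫ q.ι) := by
  obtain ⟨x, rfl⟩ := yE.symm.surjective g
  rw [yE_symm_comp]
  exact x.2

theorem factors_yon_iff {T : Over S} (g : (yon S).obj T ⟶ F) : (∃ k, k ≫ q.ι = g) ↔ q.Q g := by
  constructor
  · rintro ⟨k, rfl⟩
    exact q.q_comp_ι k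
  · exact fun h => ⟨q.lift g h, q.lift_ι g h⟩

/-- A morphism of sheaves factors through the subsheaf iff it does so on maps from schemes. -/
theorem factors_iff (f : G ⟶ F) : (∃ k, k ≫ q.ι = f) ↔
    ∀ (T : Over S) (g : (yon S).obj T ⟶ G), q.Q (g ≫ f) := by
  constructor
  · rintro ⟨k, rfl⟩ T g
    rw [← Category.assoc]
    exact q.q_comp_ι _
  · intro h
    refine ⟨⟨Subfunctor.lift f.hom ?_⟩, ?_⟩
    · rintro ⟨T⟩ x ⟨y, rfl⟩
      have := h T (yE.symm y)
      rw [yE_symm_comp] at this
      exact this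
    · apply Sheaf.hom_ext
      rfl

end SubQ

/-- Factorisation through a monomorphism can be tested on maps from schemes. -/
theorem factors_mono_iff {i : H ⟶ F} [Mono i] (f : G ⟶ F) : (∃ k, k ≫ i = f) ↔
    ∀ (T : Over S) (g : (yon S).obj T ⟶ G), ∃ k, k ≫ i = g ≫ f := by
  constructor
  · rintro ⟨k, rfl⟩ T g
    exact ⟨g ≫ k, by rw [Category.assoc]⟩
  · intro h
    -- the pullback of `i` along `f` is an isomorphism
    have h1 : ∀ (T : Over S) (g : (yon S).obj T ⟶ G), ∃ l, l ≫ pullback.snd i f = g := by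
      intro T g
      obtain ⟨k, hk⟩ := h T g
      exact ⟨pullback.lift k g hk, pullback.lift_snd _ _ _⟩
    have h2 : IsIso (pullback.snd i f) := by
      have : ∀ T : Over S, Function.Bijective ((pullback.snd i f).hom.app (op T)) := by
        intro T
        constructor
        · intro x y hxy
          have : yE.symm x ≫ pullback.snd i f =
              yE.symm y ≫ pullback.snd i f := by
            rw [yE_symm_comp, yE_symm_comp,
              hxy]
          exact yE.symm.injective ((cancel_mono _).1 this)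
        · intro y
          obtain ⟨l, hl⟩ := h1 T (yE.symm y)
          refine ⟨yE l, ?_⟩
          rw [← yE_comp, hl, Equiv.apply_symm_apply]
      have h3 : ∀ X, IsIso ((pullback.snd i f).hom.app X) := fun X => by
        rw [isIso_iff_bijective]
        exact this X.unop
      have h4 : IsIso (pullback.snd i f).hom := NatIso.isIso_of_isIso_app _
      have h5 : IsIso ((sheafToPresheaf (J S) (Type (u + 1))).map (pullback.snd i f)) := h4
      exact isIso_of_reflects_iso (pullback.snd i f) (sheafToPresheaf (J S) _)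
    exact ⟨inv (pullback.snd i f) ≫ pullback.fst i f, by
      rw [Category.assoc, pullback.condition, IsIso.inv_hom_id_assoc]⟩

end K598.Site
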