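import Groth.Agent.AlgSp.K598.ElemSq

/-!
# Induction over open subspaces

* `exists_iso_of_isEmpty`: an algebraic space without points is an empty scheme.
* `Enlarge`: the situation of the induction principle, `Enlarge.R` (the property for all open subspaces with given
  points), `Enlarge.start`, `Enlarge.step`, `Enlarge.main`.
-/

set_option autoImplicit false
universe u
open CategoryTheory CategoryTheory.Limits AlgebraicGeometry Opposite Topology
open AlgSp K610.Base K610.Factor K610.OpenImm K613.Basic K598.RepKit K598.ElemSq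

namespace K598.OpenInd

variable {S : Scheme.{u}} {F G : Sp S}

theorem isOpenImmersion_of_isEmpty {V T : Scheme.{u}} (f : V ⟶ T) [IsEmpty T] : IsOpenImmersion f := by
  have : IsEmpty V := Function.isEmpty f
  infer_instance

/-- an algebraic space without points is an empty scheme -/
theorem exists_iso_of_isEmpty (hF : IsAlgSpace F) (h : IsEmpty (Points F)) :
    ∃ T : Over S, IsEmpty T.left ∧ Nonempty ((yon S).obj T ≅ F) := by
  obtain ⟨U, p, hp, hs⟩ := hF.atlas
  have hU : IsEmpty U.left := ⟨fun u => h.elim (Points.ofPt p u)⟩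
  have ho : RepWith @IsOpenImmersion p := by
    refine ⟨hp.1, fun T V g fst snd sq => ?_⟩
    have hT : IsEmpty T.left := ⟨fun u => h.elim (Points.ofPt g u)⟩
    exact isOpenImmersion_of_isEmpty (T := T.left) _
  have := isIso_of_surjective ho (fun x => h.elim x)
  exact ⟨U, hU, ⟨asIso p⟩⟩

theorem exists_affine_iso_of_isEmpty (hF : IsAlgSpace F) (h : IsEmpty (Points F)) :
    ∃ T : Over S, IsAffine T.left ∧ Nonempty ((yon S).obj T ≅ F) := by
  obtain ⟨T, hT, e⟩ := exists_iso_of_isEmpty hF h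
  exact ⟨T, inferInstance, e⟩

theorem range_ofPt {T : Over S} (a : (yon S).obj T ⟶ F) : Set.range (Points.ofPt a) = Set.range (Points.map a) := by
  ext x
  constructor
  · rintro ⟨t, rfl⟩
    exact ⟨Points.ofPt (𝟙 _) t, by rw [← ofPt_comp, Category.id_comp]⟩
  · rintro ⟨y, rfl⟩
    obtain ⟨t, rfl⟩ := (Points.schemeHomeo T).surjective y
    refine ⟨t, ?_⟩
    change _ = Points.map _ (Points.ofPt (𝟙 _) t)
    rw [← ofPt_comp, Category.id_comp]

theorem points_map_hom_comp {X Y Z : Space S} (f : X ⟶ Y) (g : Y ⟶ Z) (x : Points X.obj) :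
    Points.map (f ≫ g).hom x = Points.map g.hom (Points.map f.hom x) := Points.map_comp _ _ _

/-- quasi-compactness of an open subspace -/
theorem isQuasiCompactSp_iff_range {X U : Space S} {j : U ⟶ X} (hj : RepWith @IsOpenImmersion j.hom) :
    IsQuasiCompactSp U.obj ↔ IsCompact (Set.range (Points.map j.hom)) := by
  rw [K609.QC.isQuasiCompactSp_iff U.2, ← isCompact_univ_iff, ← Set.image_univ]
  exact (isOpenEmbedding_points X.2 hj).isInducing.isCompact_iff

theorem isEtaleMor_of_repWith {f : F ⟶ G} (hf : RepWith @Etale f) : IsEtaleMor f :=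
  fun _ _ hφ => (repWith_isMultiplicative (S := S) @Etale).comp_mem _ _ hφ hf

/-- The situation of the induction principle. -/
structure Enlarge {X : Space S} (P : ∀ U : Space S, (U ⟶ X) → Prop) (W : Space S) (jW : W ⟶ X) : Prop where
  hjW : RepWith @IsOpenImmersion jW.hom
  hWc : IsQuasiCompactSp W.obj
  h1 : P W jW
  h2 : ∀ (W₁ W₂ V : AlgSp.Space S) (j₁ : W₁ ⟶ X) (j₂ : W₂ ⟶ X) (k : W₁ ⟶ W₂) (m : W ⟶ W₁) (f : V ⟶ W₂),
      AlgSp.RepWith @IsOpenImmersion j₁.hom → AlgSp.RepWith @IsOpenImmersion j₂.hom →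
      k ≫ j₂ = j₁ → m ≫ j₁ = jW →
      AlgSp.IsQuasiCompactSp W₁.obj → AlgSp.IsQuasiCompactSp W₂.obj →
      (∃ T : Over S, IsAffine T.left ∧ Nonempty ((AlgSp.yon S).obj T ≅ V.obj)) →
      AlgSp.IsElemDistSq k.hom f.hom → P W₁ j₁ → P W₂ j₂

theorem exists_hom_of_range {X Y Z : Space S} {j : Z ⟶ X} (hj : RepWith @IsOpenImmersion j.hom) (f : Y ⟶ X)
    (h : Set.range (Points.map f.hom) ⊆ Set.range (Points.map j.hom)) : ∃ g : Y ⟶ Z, g ≫ j = f := by
  obtain ⟨g, hg⟩ := (factors_open_iff hj f.hom).2 h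
  exact ⟨⟨g⟩, ObjectProperty.hom_ext _ hg⟩

theorem repWith_open_of_comp {X Y Z : Space S} {j : Z ⟶ X} (hj : RepWith @IsOpenImmersion j.hom) {f : Y ⟶ X}
    (hf : RepWith @IsOpenImmersion f.hom) {g : Y ⟶ Z} (hg : g ≫ j = f) : RepWith @IsOpenImmersion g.hom := by
  have := mono_of_isOpenImmersion hj
  apply repWith_of_comp_mono (j := j.hom)
  rw [← hg] at hf
  exact hf

namespace Enlarge

variable {X : Space S} {P : ∀ U : Space S, (U ⟶ X) → Prop} {W : Space S} {jW : W ⟶ X}

/-- the property for all open subspaces with the given points -/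
def R (P : ∀ U : Space S, (U ⟶ X) → Prop) (O : Set (Points X.obj)) : Prop :=
  ∀ (U : Space S) (j : U ⟶ X), RepWith @IsOpenImmersion j.hom → Set.range (Points.map j.hom) = O → P U j

theorem start (h : Enlarge P W jW) : R P (Set.range (Points.map jW.hom)) := by
  intro U j hj hr
  obtain ⟨k, hk⟩ := exists_hom_of_range hj jW hr.symm.subset
  obtain ⟨E, e, he, her⟩ := K610.Sub.exists_open_subspace U ∅ isOpen_empty
  have hE : IsEmpty (Points E.obj) := Set.range_eq_empty_iff.1 her
  refine h.h2 W U E jW j k (𝟙 W) e h.hjW hj hk (Category.id_comp _) h.hWc ?_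
    (exists_affine_iso_of_isEmpty E.2 hE) ?_ h.h1
  · rw [isQuasiCompactSp_iff_range hj, hr, ← isQuasiCompactSp_iff_range h.hjW]
    exact h.hWc
  · refine isElemDistSq_of_open U.2 (repWith_open_of_comp hj h.hjW hk) he fun x hx => ?_
    exfalso
    apply hx
    have hx' : Points.map j.hom x ∈ Set.range (Points.map jW.hom) := by rw [← hr]; exact ⟨x, rfl⟩
    obtain ⟨y, hy⟩ := hx'
    have := mono_of_isOpenImmersion hj
    refine ⟨y, K603.UnivClosedAux.injective_of_mono j.hom ?_⟩
    rw [← points_map_hom_comp, hk, hy]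

theorem step (h : Enlarge P W jW) {O : Set (Points X.obj)} (hO : IsOpen O) (hOc : IsCompact O)
    (hWO : Set.range (Points.map jW.hom) ⊆ O) (hR : R P O) {Y T V : Sp S} {V' : Over S} {jY : Y ⟶ X.obj}
    (hjY : RepWith @IsOpenImmersion jY) {i : T ⟶ Y} (hi : RepWith @IsClosedImmersion i) {g : V ⟶ Y}
    (hg : ∀ (Q : Sp S) (fst : Q ⟶ T) (snd : Q ⟶ V), IsPullback fst snd i g → IsIso fst)
    (hge : IsEtaleMor g) {v : (yon S).obj V' ⟶ V} (hv : RepWith @IsOpenImmersion v) [IsAffine V'.left]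
    (hT : ∀ x ∈ Set.range (Points.map jY), x ∉ O → x ∈ Set.range (Points.map (i ≫ jY))) :
    IsOpen (O ∪ Set.range (Points.map (v ≫ g ≫ jY))) ∧ IsCompact (O ∪ Set.range (Points.map (v ≫ g ≫ jY))) ∧
      R P (O ∪ Set.range (Points.map (v ≫ g ≫ jY))) := by
  have het : IsEtaleMor (v ≫ g ≫ jY) := by
    intro U φ hφ
    have e1 := isEtaleMor_of_open hv φ hφ
    have e2 := hge _ e1
    have e3 := isEtaleMor_of_open hjY _ e2
    simpa only [Category.assoc] using e3
  have hev : RepWith @Etale (v ≫ g ≫ jY) := by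
    have := het (𝟙 _) (repWith_id _ V')
    rwa [Category.id_comp] at this
  have hopen : IsOpen (Set.range (Points.map (v ≫ g ≫ jY))) := by
    rw [← range_ofPt]
    exact (isOpenMap_ofPt_etale hev).isOpen_range
  have : CompactSpace (Points ((yon S).obj V')) := (Points.schemeHomeo V').compactSpace
  have hcomp : IsCompact (Set.range (Points.map (v ≫ g ≫ jY))) := isCompact_range (Points.continuous_map _)
  refine ⟨hO.union hopen, hOc.union hcomp, ?_⟩
  intro W₂ j₂ hj₂ hr₂
  obtain ⟨W₁, j₁, hj₁, hr₁⟩ := K610.Sub.exists_open_subspace X O hO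
  obtain ⟨k, hk⟩ := exists_hom_of_range hj₂ j₁ (by rw [hr₁, hr₂]; exact Set.subset_union_left)
  obtain ⟨m, hm⟩ := exists_hom_of_range hj₁ jW (by rw [hr₁]; exact hWO)
  obtain ⟨f, hf⟩ := exists_hom_of_range (Y := (ofScheme S).obj V') hj₂ ⟨v ≫ g ≫ jY⟩
    (by rw [hr₂]; exact Set.subset_union_right)
  have hf' : f.hom ≫ j₂.hom = v ≫ g ≫ jY := congrArg (fun z => z.hom) hf
  have hmono : Mono j₂.hom := mono_of_isOpenImmersion hj₂
  have hfe : RepWith @Etale f.hom := by
    apply repWith_of_comp_mono (j := j₂.hom)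
    rw [hf']
    exact hev
  have hinj := K603.UnivClosedAux.injective_of_mono j₂.hom
  have hkr : ∀ x : Points W₂.obj, x ∉ Set.range (Points.map k.hom) → Points.map j₂.hom x ∉ O := by
    intro x hx hxO
    rw [← hr₁] at hxO
    obtain ⟨y, hy⟩ := hxO
    exact hx ⟨y, hinj (by rw [← points_map_hom_comp, hk, hy])⟩
  have hkf : ∀ x : Points W₂.obj, x ∉ Set.range (Points.map k.hom) →
      Points.map j₂.hom x ∈ Set.range (Points.map (v ≫ g ≫ jY)) := by
    intro x hx
    have h3 : Points.map j₂.hom x ∈ O ∪ Set.range (Points.map (v ≫ g ≫ jY)) := by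
      rw [← hr₂]
      exact ⟨x, rfl⟩
    exact h3.resolve_left (hkr x hx)
  refine h.h2 W₁ W₂ ((ofScheme S).obj V') j₁ j₂ k m f hj₁ hj₂ hk hm ?_ ?_ ⟨V', inferInstance, ⟨Iso.refl _⟩⟩ ?_
    (hR W₁ j₁ hj₁ hr₁)
  · rw [isQuasiCompactSp_iff_range hj₁, hr₁]
    exact hOc
  · rw [isQuasiCompactSp_iff_range hj₂, hr₂]
    exact hOc.union hcomp
  · refine isElemDistSq_of_factor hjY hi hg hv hmono W₂.2 (repWith_open_of_comp hj₂ hj₁ hk)
      (isEtaleMor_of_repWith hfe) hf' (fun x hx => ?_) (fun x hx => ?_)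
    · obtain ⟨y, hy⟩ := hkf x hx
      refine ⟨y, hinj ?_⟩
      rw [← hy, ← hf']
      exact (Points.map_comp (F := (yon S).obj V') f.hom j₂.hom y).symm
    · obtain ⟨y, hy⟩ := hkf x hx
      apply hT _ _ (hkr x hx)
      rw [← hy]
      exact ⟨Points.map (v ≫ g) y, by rw [← Points.map_comp, Category.assoc]⟩

/-- all affine opens of a quasi-compact scheme -/
theorem step_scheme (h : Enlarge P W jW) {O : Set (Points X.obj)} (hO : IsOpen O) (hOc : IsCompact O)
    (hWO : Set.range (Points.map jW.hom) ⊆ O) (hR : R P O) {Y T : Sp S} {V : Over S} {jY : Y ⟶ X.obj}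
    (hjY : RepWith @IsOpenImmersion jY) {i : T ⟶ Y} (hi : RepWith @IsClosedImmersion i) {g : (yon S).obj V ⟶ Y}
    (hg : ∀ (Q : Sp S) (fst : Q ⟶ T) (snd : Q ⟶ (yon S).obj V), IsPullback fst snd i g → IsIso fst)
    (hge : RepWith @Etale g) [CompactSpace V.left]
    (hT : ∀ x ∈ Set.range (Points.map jY), x ∉ O → x ∈ Set.range (Points.map (i ≫ jY))) :
    IsOpen (O ∪ Set.range (Points.map (g ≫ jY))) ∧ IsCompact (O ∪ Set.range (Points.map (g ≫ jY))) ∧
      R P (O ∪ Set.range (Points.map (g ≫ jY))) := by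
  classical
  have key : ∀ s : Finset V.left.affineOpens,
      ∃ O' : Set (Points X.obj), IsOpen O' ∧ IsCompact O' ∧ R P O' ∧ O ⊆ O' ∧
        O' = O ∪ {x | ∃ U ∈ s, ∃ t ∈ U.1, Points.ofPt (g ≫ jY) t = x} := by
    intro s
    induction s using Finset.induction_on with
    | empty => exact ⟨O, hO, hOc, hR, subset_rfl, by simp⟩
    | insert U s hU ih =>
      obtain ⟨O', h1, h2, h3, h4, h5⟩ := ih
      let V' : Over S := Over.mk (U.1.ι ≫ V.hom)
      let v : V' ⟶ V := Over.homMk U.1.ι rfl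
      have hv : RepWith @IsOpenImmersion ((yon S).map v) :=
        (repWith_yon_map_iff _ _).2 (inferInstanceAs (IsOpenImmersion U.1.ι))
      have : IsAffine V'.left := U.2
      obtain ⟨h6, h7, h8⟩ := h.step h1 h2 (hWO.trans h4) h3 hjY hi hg (isEtaleMor_of_repWith hge) hv
        (fun x hx hx' => hT x hx fun hxO => hx' (h4 hxO))
      refine ⟨_, h6, h7, h8, h4.trans Set.subset_union_left, ?_⟩
      rw [h5, Set.union_assoc]
      congr 1
      ext x
      constructor
      · rintro (⟨U', hU', t, ht, rfl⟩ | ⟨y, rfl⟩)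
        · exact ⟨U', Finset.mem_insert_of_mem hU', t, ht, rfl⟩
        · obtain ⟨t, rfl⟩ := (Points.schemeHomeo V').surjective y
          refine ⟨U, Finset.mem_insert_self _ _, U.1.ι t, ?_, ?_⟩
          · exact t.2
          · change Points.ofPt (g ≫ jY) (v.left t) = Points.map _ (Points.ofPt (𝟙 _) t)
            rw [← ofPt_map_comp, ← ofPt_comp, Category.id_comp]
      · rintro ⟨U', hU', t, ht, rfl⟩
        rcases Finset.mem_insert.1 hU' with rfl | hU''
        · right
          have : t ∈ Set.range U'.1.ι := by simpa using ht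
          obtain ⟨t', rfl⟩ := this
          refine ⟨Points.ofPt (T := V') (𝟙 _) t', ?_⟩
          change _ = Points.ofPt (g ≫ jY) (v.left t')
          rw [← ofPt_map_comp, ← ofPt_comp, Category.id_comp]
        · left
          exact ⟨U', hU'', t, ht, rfl⟩
  obtain ⟨s, hs⟩ : ∃ s : Finset V.left.affineOpens, ∀ t : V.left, ∃ U ∈ s, t ∈ U.1 := by
    obtain ⟨s, hs, hs'⟩ := (isCompact_iff_finite_and_eq_biUnion_affineOpens (X := V.left) (U := ⊤)).1
      isCompact_univ
    refine ⟨hs.toFinset, fun t => ?_⟩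
    have ht : t ∈ (⊤ : V.left.Opens) := trivial
    rw [hs'] at ht
    simpa [TopologicalSpace.Opens.mem_iSup] using ht
  obtain ⟨O', h1, h2, h3, h4, h5⟩ := key s
  have h6 : O' = O ∪ Set.range (Points.map (g ≫ jY)) := by
    rw [h5]
    congr 1
    ext x
    constructor
    · rintro ⟨U', hU', t, ht, rfl⟩
      exact ⟨Points.ofPt (𝟙 _) t, by rw [← ofPt_comp, Category.id_comp]⟩
    · rintro ⟨y, rfl⟩
      obtain ⟨t, rfl⟩ := (Points.schemeHomeo V).surjective y
      obtain ⟨U, hU, ht⟩ := hs t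
      refine ⟨U, hU, t, ht, ?_⟩
      change _ = Points.map _ (Points.ofPt (𝟙 _) t)
      rw [← ofPt_comp, Category.id_comp]
  rw [← h6]
  exact ⟨h1, h2, h3⟩

theorem main (h : Enlarge P W jW) {n : ℕ} {Uo : ℕ → Space S} {j : ∀ p, Uo p ⟶ X} {k : ∀ p, Uo (p + 1) ⟶ Uo p}
    {T : ℕ → Space S} {i : ∀ p, T p ⟶ Uo p} (hj : ∀ p, RepWith @IsOpenImmersion (j p).hom)
    (hk : ∀ p, k p ≫ j p = j (p + 1)) (hj1 : IsIso (j 1)) (hn : IsEmpty (Points (Uo (n + 1)).obj))
    (hi : ∀ p, IsRedInduced (Set.range (Points.map (k p).hom))ᶜ (i p).hom)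
    (hV : ∀ p, 1 ≤ p → ∃ (V : Over S) (f : (yon S).obj V ⟶ (Uo p).obj), V.left.IsSeparated ∧ CompactSpace ↥V.left ∧
        RepWith @Etale f ∧ RepWith @Surjective f ∧
        ∀ (P : Sp S) (fst : P ⟶ (T p).obj) (snd : P ⟶ (yon S).obj V),
          IsPullback fst snd (i p).hom f → IsIso fst) : P X (𝟙 X) := by
  have key : ∀ q p : ℕ, p + q = n → IsOpen (Set.range (Points.map jW.hom) ∪ Set.range (Points.map (j (p + 1)).hom)) ∧
      IsCompact (Set.range (Points.map jW.hom) ∪ Set.range (Points.map (j (p + 1)).hom)) ∧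
      R P (Set.range (Points.map jW.hom) ∪ Set.range (Points.map (j (p + 1)).hom)) := by
    intro q
    induction q with
    | zero =>
      intro p hp
      obtain rfl : p = n := hp
      have he : Set.range (Points.map (j (p + 1)).hom) = ∅ := Set.range_eq_empty_iff.2 hn
      rw [he, Set.union_empty]
      exact ⟨(isOpenEmbedding_points X.2 h.hjW).isOpen_range, (isQuasiCompactSp_iff_range h.hjW).1 h.hWc, h.start⟩
    | succ q ih =>
      intro p hp
      obtain ⟨h1, h2, h3⟩ := ih (p + 1) (by omega)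
      obtain ⟨V, f, -, hVc, hfe, hfs, hf⟩ := hV (p + 1) (by omega)
      have hr : Set.range (Points.map (f ≫ (j (p + 1)).hom)) = Set.range (Points.map (j (p + 1)).hom) := by
        have hs : Function.Surjective (Points.map f) := surjective_points_of_repWith hfs
        have h4 : Points.map (f ≫ (j (p + 1)).hom) = Points.map (j (p + 1)).hom ∘ Points.map f := by
          ext x
          exact Points.map_comp _ _ _
        rw [h4, hs.range_comp]
      have hkr : Set.range (Points.map (j (p + 1 + 1)).hom) ⊆ Set.range (Points.map (j (p + 1)).hom) := by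
        rw [← hk (p + 1)]
        rintro _ ⟨x, rfl⟩
        exact ⟨_, (points_map_hom_comp _ _ _).symm⟩
      have h5 := h.step_scheme h1 h2 Set.subset_union_left h3 (hj (p + 1)) (hi (p + 1)).1 hf hfe (by
        rintro _ ⟨y, rfl⟩ hx
        have h6 : y ∈ Set.range (Points.map (i (p + 1)).hom) := by
          rw [(hi (p + 1)).2.1]
          rintro ⟨z, rfl⟩
          apply hx
          right
          rw [← points_map_hom_comp, hk]
          exact ⟨z, rfl⟩
        obtain ⟨z, rfl⟩ := h6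
        exact ⟨z, Points.map_comp _ _ _⟩)
      rw [hr, Set.union_assoc, Set.union_eq_right.2 hkr] at h5
      exact h5
  obtain ⟨-, -, h3⟩ := key n 0 (by omega)
  apply h3 X (𝟙 X)
  · have : IsIso (𝟙 X : X ⟶ X).hom := inferInstanceAs (IsIso (𝟙 X.obj))
    exact repWith_of_isIso _
  · have h6 : IsIso (j (0 + 1)) := hj1
    have h7 : Set.range (Points.map (j (0 + 1)).hom) = Set.univ := by
      rw [Set.eq_univ_iff_forall]
      intro x
      refine ⟨Points.map (inv (j (0 + 1))).hom x, ?_⟩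
      rw [← points_map_hom_comp, IsIso.inv_hom_id]
      exact Points.map_id _
    rw [h7, Set.union_univ, Set.eq_univ_iff_forall]
    intro x
    exact ⟨x, Points.map_id _⟩

end Enlarge

end K598.OpenInd
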