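import Groth.Agent.AlgSp.K598.Charts
import Groth.Agent.Picfga.IdealDescent

/-!
# Scheme theoretic images

* `K f g`: the ideal of the scheme theoretic image of `X ×_Y h_T ⟶ h_T` for `g : h_T ⟶ Y`.
* `K_eq_ker`: it is the kernel of `U ⟶ T` for any chart `h_U ⟶ X ×_Y h_T`.
* `K_bc`: flat base change when `f` is quasi-compact and `T` is affine.
* `isSchImage_iff`: `IsSchImage f i` iff the closed subspace `i` is the greatest family of ideals vanishing on `f`.
* `exists_image`: for `f` quasi-compact the greatest family `A` has `A.I g = K f g` for `T` affine and `g` flat.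
-/

set_option autoImplicit false
universe u
open CategoryTheory CategoryTheory.Limits AlgebraicGeometry Opposite
open AlgSp K598.Site K598.RepKit K598.ClFam K598.Charts
open Groth.Agent.RedSub.H647.QCov

namespace K598.SchImg

variable {S : Scheme.{u}} {X Y Z : Sp S}

/-- The family of ideals `A` on `Y` vanishes on `f : X ⟶ Y`. -/
def Vanish (f : X ⟶ Y) (A : Fam Y) : Prop := ∀ (T : Over S) (w : (yon S).obj T ⟶ X), A.I (w ≫ f) = ⊥

/-- `f` factors through `i : Z ⟶ Y` iff the family of `i` vanishes on `f`. -/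
theorem factors_iff_vanish (f : X ⟶ Y) (i : Z ⟶ Y) (hi : RepWith @IsClosedImmersion i) :
    (∃ f' : X ⟶ Z, f' ≫ i = f) ↔ Vanish f (ofClosed i hi) := factors_iff hi f

theorem isSchImage_iff (hY : IsAlgSpace Y) (f : X ⟶ Y) (i : Z ⟶ Y) :
    IsSchImage f i ↔ ∃ hi : RepWith @IsClosedImmersion i, Vanish f (ofClosed i hi) ∧
      ∀ A : Fam Y, Vanish f A → A ≤ ofClosed i hi := by
  constructor
  · rintro ⟨hi, h1, h2⟩
    refine ⟨hi, (factors_iff_vanish f i hi).1 h1, fun A hA => ?_⟩
    have h3 := h2 A.ι (A.isAlgSpace_sheaf hY) A.repWith_ι ((A.factors_iff' f).2 hA)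
    rw [exists_hom_iff_le hi A.repWith_ι, ofClosed_ι] at h3
    exact h3
  · rintro ⟨hi, h1, h2⟩
    refine ⟨hi, (factors_iff_vanish f i hi).2 h1, fun Z' i' hZ' hi' h => ?_⟩
    exact (exists_hom_iff_le hi hi').2 (h2 _ ((factors_iff_vanish f i' hi').1 h))

/-- The family of ideals on `h_T` of an ideal sheaf on `T`. -/
noncomputable def idealFam (T : Over S) (J : T.left.IdealSheafData) : Fam ((yon S).obj T) where
  I g := J.comap ((yon S).preimage g).left
  comap {T₁ T'} φ g := by
    rw [← Scheme.IdealSheafData.comap_comp, ← Over.comp_left]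
    congr 2
    exact (yon S).map_injective (by simp)

theorem idealFam_map (T : Over S) (J : T.left.IdealSheafData) {T' : Over S} (φ : T' ⟶ T) :
    (idealFam T J).I ((yon S).map φ) = J.comap φ.left := by
  change J.comap ((yon S).preimage ((yon S).map φ)).left = _
  rw [(yon S).preimage_map]

/-- The set of ideals of `T` vanishing on `X ×_Y h_T`. -/
def KSet (f : X ⟶ Y) {T : Over S} (g : (yon S).obj T ⟶ Y) : Set T.left.IdealSheafData :=
  {I | ∀ (W : Over S) (w : (yon S).obj W ⟶ X) (b : W ⟶ T), w ≫ f = (yon S).map b ≫ g → I.comap b.left = ⊥}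

/-- The ideal of the scheme theoretic image of `X ×_Y h_T ⟶ h_T`. -/
noncomputable def K (f : X ⟶ Y) {T : Over S} (g : (yon S).obj T ⟶ Y) : T.left.IdealSheafData :=
  sSup (KSet f g)

theorem K_mem (f : X ⟶ Y) {T : Over S} (g : (yon S).obj T ⟶ Y) : K f g ∈ KSet f g := by
  intro W w b h
  rw [K, comap_sSup, eq_bot_iff]
  refine sSup_le ?_
  rintro _ ⟨I, hI, rfl⟩
  exact (hI W w b h).le

theorem le_K {f : X ⟶ Y} {T : Over S} {g : (yon S).obj T ⟶ Y} {I : T.left.IdealSheafData}
    (hI : I ∈ KSet f g) : I ≤ K f g := le_sSup hI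

/-- The ideal of the image is the kernel of `U ⟶ T` for a chart `h_U ⟶ X ×_Y h_T`. -/
theorem K_eq_ker {f : X ⟶ Y} {T : Over S} {g : (yon S).obj T ⟶ Y} {P : Sp S} {fst : P ⟶ X}
    {snd : P ⟶ (yon S).obj T} (sq : IsPullback fst snd f g) {U : Over S} (u : (yon S).obj U ⟶ P)
    (hu : RepWith @Etale u) (hus : RepWith @Surjective u) (q : U ⟶ T) (hq : u ≫ snd = (yon S).map q) :
    K f g = q.left.ker := by
  apply le_antisymm
  · rw [le_ker_iff]
    refine K_mem f g U (u ≫ fst) q ?_
    rw [Category.assoc, sq.w, ← Category.assoc, hq]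
  · apply le_K
    intro W w b h
    have h1 := (ChartFam.single hu hus).vanish (idealFam T q.left.ker) snd (fun _ => by
      rw [hq, idealFam_map]
      exact comap_ker_self _) W (sq.lift w ((yon S).map b) h)
    rw [sq.lift_snd, idealFam_map] at h1
    exact h1

/-- The ideals of the image under pullback squares. -/
theorem K_of_isPullback {X' Y' : Sp S} {f : X ⟶ Y} {f' : X' ⟶ Y'} {p : X' ⟶ X} {p' : Y' ⟶ Y}
    (sq : IsPullback p f' f p') {T : Over S} (g : (yon S).obj T ⟶ Y') : K f' g = K f (g ≫ p') := by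
  have : KSet f' g = KSet f (g ≫ p') := by
    ext I
    constructor
    · intro h W w b hw
      refine h W (sq.lift w ((yon S).map b ≫ g) (by rw [hw, Category.assoc])) b ?_
      rw [sq.lift_snd]
    · intro h W w b hw
      refine h W (w ≫ p) b ?_
      rw [Category.assoc, sq.w, ← Category.assoc, hw, Category.assoc]
  rw [K, K, this]

/-- Flat base change. -/
theorem K_bc {f : X ⟶ Y} {T : Over S} {g : (yon S).obj T ⟶ Y} {P : Sp S} {fst : P ⟶ X}
    {snd : P ⟶ (yon S).obj T} (sq : IsPullback fst snd f g) {U : Over S} (u : (yon S).obj U ⟶ P)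
    (hu : RepWith @Etale u) (hus : RepWith @Surjective u) (q : U ⟶ T) (hq : u ≫ snd = (yon S).map q)
    [QuasiCompact q.left] {T' : Over S} (φ : T' ⟶ T) [Flat φ.left] :
    K f ((yon S).map φ ≫ g) = (K f g).comap φ.left := by
  rw [K_eq_ker sq u hu hus q hq]
  -- the base change of `P`
  obtain ⟨P', r, s, sq1⟩ : ∃ (P' : Sp S) (r : P' ⟶ P) (s : P' ⟶ (yon S).obj T'),
      IsPullback r s snd ((yon S).map φ) := ⟨_, _, _, IsPullback.of_hasPullback _ _⟩
  have sq2 : IsPullback (r ≫ fst) s f ((yon S).map φ ≫ g) := sq1.paste_horiz sq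
  -- the base change of `U`
  have sq3 : IsPullback (pullback.fst q φ) (pullback.snd q φ) q φ := IsPullback.of_hasPullback _ _
  have sq3' := sq3.map (yon S)
  have sq3'' := sq3.map (Over.forget S)
  have hw : ((yon S).map (pullback.fst q φ) ≫ u) ≫ snd = (yon S).map (pullback.snd q φ) ≫ (yon S).map φ := by
    rw [Category.assoc, hq, ← Functor.map_comp, pullback.condition, Functor.map_comp]
  let u' : (yon S).obj (pullback q φ) ⟶ P' := sq1.lift ((yon S).map (pullback.fst q φ) ≫ u)
    ((yon S).map (pullback.snd q φ)) hw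
  have hu'2 : u' ≫ s = (yon S).map (pullback.snd q φ) := sq1.lift_snd _ _ _
  have hu'1 : u' ≫ r = (yon S).map (pullback.fst q φ) ≫ u := sq1.lift_fst _ _ _
  have sq4 : IsPullback u' ((yon S).map (pullback.fst q φ)) r u := by
    refine IsPullback.of_right (h₁₂ := s) (h₂₂ := snd) (v₁₃ := (yon S).map φ) ?_ hu'1 sq1.flip
    rw [hu'2, hq]
    exact sq3'.flip
  have hu' : RepWith @Etale u' := repWith_of_isPullback sq4.flip hu
  have hus' : RepWith @Surjective u' := repWith_of_isPullback sq4.flip hus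
  rw [K_eq_ker sq2 u' hu' hus' (pullback.snd q φ) hu'2]
  have : QuasiCompact ((Over.forget S).map q) := ‹QuasiCompact q.left›
  have : Flat ((Over.forget S).map φ) := ‹Flat φ.left›
  exact (Groth.Agent.Picfga.IdealDescent.ker_comap_of_isPullback sq3'').symm

/-- A represented chart of `X ×_Y h_T` with quasi-compact structure map to `T`, for `f` quasi-compact and `T`
affine. -/
theorem exists_qc_chart {f : X ⟶ Y} (hf : IsQuasiCompactMor f) {T : Over S} [IsAffine T.left]
    (g : (yon S).obj T ⟶ Y) :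
    ∃ (P : Sp S) (fst : P ⟶ X) (snd : P ⟶ (yon S).obj T) (_ : IsPullback fst snd f g) (U : Over S)
      (u : (yon S).obj U ⟶ P) (q : U ⟶ T), RepWith @Etale u ∧ RepWith @Surjective u ∧
        u ≫ snd = (yon S).map q ∧ QuasiCompact q.left := by
  have sq : IsPullback (pullback.fst f g) (pullback.snd f g) f g := IsPullback.of_hasPullback _ _
  have hT : IsQuasiCompactSp ((yon S).obj T) := ⟨T, 𝟙 _, repWith_id _ _, repWith_id _ _, inferInstance⟩
  obtain ⟨U, u, h1, h2, h3⟩ := hf (IsAlgSpace.yon_obj T) hT g _ _ sq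
  refine ⟨_, _, _, sq, U, u, (yon S).preimage (u ≫ pullback.snd f g), h1, h2, by simp, ?_⟩
  have : CompactSpace ↥U.left := h3
  infer_instance

/-- Flat base change for quasi-compact morphisms. -/
theorem K_bc' {f : X ⟶ Y} (hf : IsQuasiCompactMor f) {T : Over S} [IsAffine T.left]
    (g : (yon S).obj T ⟶ Y) {T' : Over S} (φ : T' ⟶ T) [Flat φ.left] :
    K f ((yon S).map φ ≫ g) = (K f g).comap φ.left := by
  obtain ⟨P, fst, snd, sq, U, u, q, hu, hus, hq, hqc⟩ := exists_qc_chart hf g
  exact K_bc sq u hu hus q hq φ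

/-- The greatest family vanishing on a quasi-compact morphism, and its ideals on affine schemes flat over `Y`. -/
theorem exists_image (hY : IsAlgSpace Y) {f : X ⟶ Y} (hf : IsQuasiCompactMor f) :
    ∃ A : Fam Y, Vanish f A ∧ (∀ B : Fam Y, Vanish f B → B ≤ A) ∧
      ∀ (T : Over S) (g : (yon S).obj T ⟶ Y), IsAffine T.left → RepWith @Flat g → A.I g = K f g := by
  obtain ⟨ι, V, p, h1, h2, h3⟩ := exists_affine_charts hY
  have hp : ChartFam p := ChartFam.of_etale h1 h3
  obtain ⟨A, hA⟩ := hp.exists_fam (fun j => K f (p j)) (by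
    intro j k R a b hab
    have hj := (h1 j).1.isPullback' (p k)
    set r := (h1 j).1.fst' (p k) with hr
    set q := (h1 j).1.snd (p k) with hq
    obtain ⟨c, hc⟩ := (yon S).map_surjective (hj.lift _ _ hab)
    have e1 : c ≫ r = a := (yon S).map_injective (by rw [Functor.map_comp, hc, IsPullback.lift_fst])
    have e2 : c ≫ q = b := (yon S).map_injective (by rw [Functor.map_comp, hc, IsPullback.lift_snd])
    have hfl1 : Flat q.left := (repWith_flat_of_etale (h1 j)).2 _ _ _ hj
    have hfl2 : Flat r.left := (repWith_flat_of_etale (h1 k)).2 _ _ _ hj.flip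
    have := h2 j
    have := h2 k
    rw [← e1, ← e2, Over.comp_left, Over.comp_left, Scheme.IdealSheafData.comap_comp,
      Scheme.IdealSheafData.comap_comp, ← K_bc' hf (p j) r, ← K_bc' hf (p k) q, hj.w])
  refine ⟨A, ?_, ?_, ?_⟩
  · intro T w
    obtain ⟨P, r, q, sq⟩ := exists_pullbacks (fun j => (h1 j).1) (w ≫ f)
    refine (hp.isQCov _ sq).ideal_ext fun j => ?_
    rw [← A.comap, ← (sq j).w, A.comap, hA, Scheme.IdealSheafData.comap_bot]
    refine K_mem f (p j) (P j) ((yon S).map (q j) ≫ w) (r j) ?_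
    rw [Category.assoc, ← (sq j).w]
  · intro B hB
    refine hp.le_of_le fun j => ?_
    rw [hA]
    refine le_K fun W w b h => ?_
    rw [← B.comap, ← h]
    exact hB W w
  · intro T g hT hg
    obtain ⟨P, r, q, sq⟩ := exists_pullbacks (fun j => (h1 j).1) g
    refine (hp.isQCov _ sq).ideal_ext fun j => ?_
    have hfl1 : Flat (q j).left := (repWith_flat_of_etale (h1 j)).2 _ _ _ (sq j)
    have hfl2 : Flat (r j).left := hg.2 _ _ _ (sq j).flip
    have := h2 j
    rw [← A.comap, ← (sq j).w, A.comap, hA, ← K_bc' hf g (q j), ← K_bc' hf (p j) (r j), (sq j).w]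

/-- The ideals of the scheme theoretic image of a quasi-compact morphism on affine schemes flat over `Y`. -/
theorem image_eq_K (hY : IsAlgSpace Y) {f : X ⟶ Y} (hf : IsQuasiCompactMor f) {i : Z ⟶ Y}
    (hi : RepWith @IsClosedImmersion i) (h : IsSchImage f i) {T : Over S} (g : (yon S).obj T ⟶ Y)
    (hT : IsAffine T.left) (hg : RepWith @Flat g) : (ofClosed i hi).I g = K f g := by
  obtain ⟨A, h1, h2, h3⟩ := exists_image hY hf
  obtain ⟨hi', h4, h5⟩ := (isSchImage_iff hY f i).1 h
  rw [← h3 T g hT hg]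
  congr 1
  exact le_antisymm (h2 _ h4) (h5 _ h1)

/-- Criterion: a closed subspace is the scheme theoretic image if it has the right ideals on flat affine charts. -/
theorem isSchImage_of_K (hY : IsAlgSpace Y) {f : X ⟶ Y} {i : Z ⟶ Y} (hi : RepWith @IsClosedImmersion i)
    {ι : Type u} {V : ι → Over S} {p : ∀ j, (yon S).obj (V j) ⟶ Y} (hp : ChartFam p)
    (h : ∀ j, (ofClosed i hi).I (p j) = K f (p j)) : IsSchImage f i := by
  refine (isSchImage_iff hY f i).2 ⟨hi, ?_, ?_⟩
  · intro T w
    obtain ⟨P, r, q, sq⟩ := exists_pullbacks (fun j => (hp.flat j).1) (w ≫ f)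
    refine (hp.isQCov _ sq).ideal_ext fun j => ?_
    rw [← (ofClosed i hi).comap, ← (sq j).w, (ofClosed i hi).comap, h, Scheme.IdealSheafData.comap_bot]
    refine K_mem f (p j) (P j) ((yon S).map (q j) ≫ w) (r j) ?_
    rw [Category.assoc, ← (sq j).w]
  · intro B hB
    refine hp.le_of_le fun j => ?_
    rw [h]
    refine le_K fun W w b h => ?_
    rw [← B.comap, ← h]
    exact hB W w

/-- The scheme theoretic image of a quasi-compact morphism commutes with base changes `b : Y' ⟶ Y` such that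
`h_T ⟶ Y' ⟶ Y` is flat for every etale chart of `Y'`. -/
theorem isSchImage_of_isPullback {X' Y' Z' : Sp S} (hY : IsAlgSpace Y) (hY' : IsAlgSpace Y') {f : X ⟶ Y}
    (hf : IsQuasiCompactMor f) {i : Z ⟶ Y} (h : IsSchImage f i) {b : Y' ⟶ Y}
    (hb : ∀ (T : Over S) (g : (yon S).obj T ⟶ Y'), RepWith @Etale g → RepWith @Flat (g ≫ b))
    {f' : X' ⟶ Y'} {a : X' ⟶ X} (sqf : IsPullback a f' f b) {i' : Z' ⟶ Y'} {c : Z' ⟶ Z}
    (sqi : IsPullback c i' i b) : IsSchImage f' i' := by
  have hi := h.1
  have hi' : RepWith @IsClosedImmersion i' := repWith_of_isPullback sqi hi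
  obtain ⟨ι, V, p, h1, h2, h3⟩ := exists_affine_charts hY'
  refine isSchImage_of_K hY' hi' (ChartFam.of_etale h1 h3) fun j => ?_
  rw [ofClosed_of_isPullback hi sqi hi', image_eq_K hY hf hi h _ (h2 j) (hb _ _ (h1 j)), K_of_isPullback sqf]

end K598.SchImg
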