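import Groth.Agent.AlgSp.K598.Dens
import Groth.Agent.AlgSp.K610.Factor
import Groth.Agent.AlgSp.K612.Reduced
import Groth.Agent.Ega1.ReducedSub

/-!
# Reduced induced structures on closed subsets of algebraic spaces

* `comap_vanishingIdeal`: etale pullback of the vanishing ideal.
* `exists_redFam`, `isRedInduced_of_fam`, `exists_isRedInduced` (existence of the reduced induced structure).
* `isClosed_range`: the image of a closed immersion is closed.
* `isSchImage_of_reduced`: the scheme theoretic image of a reduced space.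
-/

set_option autoImplicit false
universe u
open CategoryTheory CategoryTheory.Limits AlgebraicGeometry Opposite TopologicalSpace
open AlgSp K598.Site K598.RepKit K598.ClFam K598.Charts K598.SchImg

namespace K598.Red

/-- Etale pullback of the ideal of a reduced closed subscheme. -/
theorem comap_vanishingIdeal {X Y : Scheme.{u}} (f : X ⟶ Y) [Etale f] (Z : Closeds Y) :
    (Scheme.IdealSheafData.vanishingIdeal Z).comap f =
      Scheme.IdealSheafData.vanishingIdeal (Z.preimage f.continuous) := by
  set i := (Scheme.IdealSheafData.vanishingIdeal Z).subschemeι with hi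
  have hr : IsReduced (Scheme.IdealSheafData.vanishingIdeal Z).subscheme :=
    Groth.Agent.Ega1.ReducedSub.isReduced_subscheme_vanishingIdeal Z
  have sq := IsPullback.of_hasPullback i f
  have h1 : IsReduced (pullback i f) := K612.Reduced.isReduced_of_etale (pullback.fst i f)
  have h2 : IsClosedImmersion (pullback.snd i f) := inferInstance
  have h3 := ker_eq_comap_of_isPullback sq
  rw [show i.ker = Scheme.IdealSheafData.vanishingIdeal Z from Scheme.IdealSheafData.ker_subschemeι _] at h3
  rw [← h3, Groth.Agent.Ega1.ReducedSub.ker_eq_vanishingIdeal]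
  congr 1
  ext x
  have h4 : Set.range i = (Z : Set Y) := by
    rw [hi, Scheme.IdealSheafData.range_subschemeι]
    simp
  have h5 : Set.range (pullback.snd i f) = f ⁻¹' (Z : Set Y) := by
    rw [← h4]
    ext y
    constructor
    · rintro ⟨z, rfl⟩
      exact ⟨pullback.fst i f z, by rw [← Scheme.Hom.comp_apply, pullback.condition, Scheme.Hom.comp_apply]⟩
    · rintro ⟨z, hz⟩
      obtain ⟨w, -, hw⟩ := Scheme.Pullback.exists_preimage_pullback z y hz
      exact ⟨w, hw⟩
  change x ∈ closure (Set.range (pullback.snd i f)) ↔ x ∈ f ⁻¹' (Z : Set Y)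
  rw [h5, (Z.isClosed.preimage f.continuous).closure_eq]

variable {S : Scheme.{u}} {X Y Z : Sp S}

/-- The inverse image of a closed set of points in a chart. -/
noncomputable def preC (C : Closeds (Points Y)) {T : Over S} (g : (yon S).obj T ⟶ Y) : Closeds T.left :=
  C.preimage (Points.continuous_ofPt g)

theorem preC_map (C : Closeds (Points Y)) {T T' : Over S} (φ : T' ⟶ T) (g : (yon S).obj T ⟶ Y) :
    preC C ((yon S).map φ ≫ g) = (preC C g).preimage φ.left.continuous := by
  ext t
  change Points.ofPt ((yon S).map φ ≫ g) t ∈ (C : Set (Points Y)) ↔ Points.ofPt g (φ.left t) ∈ (C : Set (Points Y))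
  rw [K609.Points.ofPt_yon_map_comp]

/-- The reduced induced structure, as a family of ideals. -/
theorem exists_redFam (hY : IsAlgSpace Y) (C : Closeds (Points Y)) :
    ∃ A : Fam Y, ∀ (T : Over S) (g : (yon S).obj T ⟶ Y), RepWith @Etale g →
      A.I g = Scheme.IdealSheafData.vanishingIdeal (preC C g) := by
  obtain ⟨V, p, h1, h2⟩ := hY.atlas
  have key : ∀ (R : Over S) (a b : R ⟶ V), Etale a.left → Etale b.left → (yon S).map a ≫ p = (yon S).map b ≫ p →
      (Scheme.IdealSheafData.vanishingIdeal (preC C p)).comap a.left =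
        (Scheme.IdealSheafData.vanishingIdeal (preC C p)).comap b.left := by
    intro R a b _ _ hab
    rw [comap_vanishingIdeal, comap_vanishingIdeal, ← preC_map, ← preC_map, hab]
  obtain ⟨A, hA⟩ := (ChartFam.single h1 h2).exists_fam (fun _ => Scheme.IdealSheafData.vanishingIdeal (preC C p)) (by
    intro j k R a b hab
    have sq := h1.1.isPullback' p
    set r := h1.1.fst' p with hr
    set q := h1.1.snd p with hq
    obtain ⟨c, hc⟩ := (yon S).map_surjective (sq.lift _ _ hab)
    have e1 : c ≫ r = a := (yon S).map_injective (by rw [Functor.map_comp, hc, IsPullback.lift_fst])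
    have e2 : c ≫ q = b := (yon S).map_injective (by rw [Functor.map_comp, hc, IsPullback.lift_snd])
    rw [← e1, ← e2, Over.comp_left, Over.comp_left, Scheme.IdealSheafData.comap_comp,
      Scheme.IdealSheafData.comap_comp, key _ r q (h1.2 _ _ _ sq.flip) (h1.2 _ _ _ sq) sq.w])
  refine ⟨A, fun T g hg => ?_⟩
  obtain ⟨P, r, q, sq⟩ := exists_pullbacks (V := fun _ : PUnit.{u+1} => V) (p := fun _ => p) (fun _ => h1.1) g
  refine ((ChartFam.single h1 h2).isQCov g sq).ideal_ext fun j => ?_
  have hE1 : Etale (q j).left := h1.2 _ _ _ (sq j)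
  have hE2 : Etale (r j).left := hg.2 _ _ _ (sq j).flip
  rw [← A.comap, ← (sq j).w, A.comap, hA PUnit.unit, comap_vanishingIdeal, comap_vanishingIdeal, ← preC_map, ← preC_map,
    (sq j).w]

theorem range_map_ι (A : Fam Y) {T : Over S} (g : (yon S).obj T ⟶ Y) :
    Points.ofPt g ⁻¹' Set.range (Points.map A.ι) = (A.I g).support := by
  obtain ⟨fst, sq⟩ := A.exists_isPullback g
  have h1 := K609.Points.preimage_image_map sq Set.univ
  rw [Set.image_univ, Set.preimage_univ, Set.image_univ] at h1
  rw [h1]
  exact Scheme.IdealSheafData.range_subschemeι _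

theorem isRedInduced_of_fam (hY : IsAlgSpace Y) (C : Closeds (Points Y)) (A : Fam Y)
    (hA : ∀ (T : Over S) (g : (yon S).obj T ⟶ Y), RepWith @Etale g →
      A.I g = Scheme.IdealSheafData.vanishingIdeal (preC C g)) : IsRedInduced (C : Set (Points Y)) A.ι := by
  obtain ⟨V, p, h1, h2⟩ := hY.atlas
  refine ⟨A.repWith_ι, ?_, ?_⟩
  · have hs := K609.Points.surjective_ofPt_of_repWith_surjective h2
    have h3 := range_map_ι A p
    rw [hA _ p h1] at h3
    apply hs.preimage_injective
    rw [h3]
    simp [preC]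
  · obtain ⟨fst, sq⟩ := A.exists_isPullback p
    refine ⟨_, fst, repWith_of_isPullback sq.flip h1, repWith_of_isPullback sq.flip h2, ?_⟩
    rw [hA _ p h1]
    exact Groth.Agent.Ega1.ReducedSub.isReduced_subscheme_vanishingIdeal _

theorem exists_isRedInduced (hY : IsAlgSpace Y) (C : Set (Points Y)) (hC : IsClosed C) :
    ∃ (Z : Sp S) (i : Z ⟶ Y), IsAlgSpace Z ∧ IsRedInduced C i := by
  obtain ⟨A, hA⟩ := exists_redFam hY ⟨C, hC⟩
  exact ⟨A.sheaf, A.ι, A.isAlgSpace_sheaf hY, isRedInduced_of_fam hY ⟨C, hC⟩ A hA⟩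

/-- The image of a closed immersion is closed. -/
theorem isClosed_range {i : Z ⟶ Y} (hi : RepWith @IsClosedImmersion i) : IsClosed (Set.range (Points.map i)) := by
  rw [← isOpen_compl_iff, Points.isOpen_iff]
  intro T g
  have sq := hi.1.isPullback g
  have hcl : IsClosedImmersion (hi.1.snd g).left := hi.2 _ _ _ sq
  have h1 := K609.Points.preimage_image_map sq Set.univ
  rw [Set.image_univ, Set.preimage_univ, Set.image_univ] at h1
  rw [Set.preimage_compl, isOpen_compl_iff, h1]
  exact (hi.1.snd g).left.isClosedEmbedding.isClosed_range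

/-- The scheme theoretic image of a morphism from a reduced space is the reduced induced structure on the closure of
the image. -/
theorem isSchImage_of_isReducedSp {f : X ⟶ Y} (hX : IsReducedSp X) {i : Z ⟶ Y}
    (hi : IsRedInduced (closure (Set.range (Points.map f))) i) : IsSchImage f i := by
  refine ⟨hi.1, (K610.Factor.factors_closed_iff hi.1 hX f).2 (by rw [hi.2.1]; exact subset_closure), ?_⟩
  rintro Z' i' hZ' hi' ⟨f', hf'⟩
  refine (K610.Factor.factors_closed_iff hi' hi.2.2 i).2 ?_
  rw [hi.2.1]
  refine closure_minimal ?_ (isClosed_range hi')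
  rintro _ ⟨x, rfl⟩
  exact ⟨Points.map f' x, by rw [← Points.map_comp, hf']⟩

theorem isRedInduced_of_iso {C : Set (Points Y)} {Z' : Sp S} {i : Z ⟶ Y} {i' : Z' ⟶ Y} (h : IsRedInduced C i)
    (k : Z' ⟶ Z) [IsIso k] (hk : k ≫ i = i') : IsRedInduced C i' := by
  obtain ⟨h1, h2, U, p, h3, h4, h5⟩ := h
  subst hk
  refine ⟨MorphismProperty.comp_mem _ _ _ (repWith_of_isIso _) h1, ?_, U, p ≫ inv k,
    MorphismProperty.comp_mem _ _ _ h3 (repWith_of_isIso _), MorphismProperty.comp_mem _ _ _ h4 (repWith_of_isIso _),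
    h5⟩
  rw [← h2]
  ext y
  constructor
  · rintro ⟨x, rfl⟩
    exact ⟨Points.map k x, (Points.map_comp _ _ _).symm⟩
  · rintro ⟨x, rfl⟩
    refine ⟨Points.map (inv k) x, ?_⟩
    rw [← Points.map_comp, IsIso.inv_hom_id_assoc]

end K598.Red
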