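import Groth.Agent.AlgSp.K598.RepKit
import Groth.Agent.RedSub.H647.QCov
import Groth.Prelude.Def_AlgSpSub

/-!
# Closed subspaces of a sheaf as compatible families of ideal sheaves

A closed subspace of a sheaf `Y` on the big fppf site (a representable closed immersion `i : Z ⟶ Y`) is the same thing
as a family of ideal sheaves `I g` on `T`, one for every `g : h_T ⟶ Y`, compatible with pullback (`Fam Y`).

* `Fam`, its partial order; `Fam.sheaf`, `Fam.ι`, `Fam.isPullback`, `Fam.repWith_ι`.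
* `ofClosed i hi : Fam Y`, `ofClosed_eq`, `factors_yon_iff`, `factors_iff`, `exists_hom_iff_le`.
* `Fam.sSup`: intersections of closed subspaces.
* `Fam.ofCover`: descent of closed subspaces along a family of charts.
* `le_ker_iff`, `ker_eq_comap_of_isPullback`.
-/

set_option autoImplicit false
universe u
open CategoryTheory CategoryTheory.Limits AlgebraicGeometry Opposite
open AlgSp K598.Site K598.RepKit
open Groth.Agent.RedSub.H647.QCov

namespace K598.ClFam

section scheme

variable {X Y Z T : Scheme.{u}}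

theorem le_ker_iff {J : Y.IdealSheafData} (f : X ⟶ Y) : J ≤ f.ker ↔ J.comap f = ⊥ := by
  rw [← Scheme.IdealSheafData.map_bot, Scheme.IdealSheafData.le_map_iff_comap_le, le_bot_iff]

theorem comap_ker_self (f : X ⟶ Y) : f.ker.comap f = ⊥ := (le_ker_iff f).1 le_rfl

/-- The kernel of a base change of a closed immersion. -/
theorem ker_eq_comap_of_isPullback {P : Scheme.{u}} {a : P ⟶ Z} {b : P ⟶ T} {i : Z ⟶ Y} {f : T ⟶ Y}
    (h : IsPullback a b i f) [IsClosedImmersion i] : b.ker = i.ker.comap f := by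
  rw [← Scheme.IdealSheafData.ker_fst_of_isClosedImmersion,
    ← Scheme.Hom.ker_comp_of_isIso h.flip.isoPullback.hom, IsPullback.isoPullback_hom_fst]

theorem subschemeι_comap_self (I : Y.IdealSheafData) : I.comap I.subschemeι = ⊥ := by
  rw [← le_ker_iff, Scheme.IdealSheafData.ker_subschemeι]

/-- A morphism with `I.comap f = ⊥` factors through the closed subscheme of `I`. -/
theorem exists_lift_subschemeι (I : Y.IdealSheafData) (f : X ⟶ Y) (h : I.comap f = ⊥) :
    ∃ k : X ⟶ I.subscheme, k ≫ I.subschemeι = f :=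
  ⟨IsClosedImmersion.lift I.subschemeι f (by
    rw [Scheme.IdealSheafData.ker_subschemeι]; exact (le_ker_iff f).2 h), IsClosedImmersion.lift_fac _ _ _⟩

theorem isIso_of_ker_eq_bot (i : Z ⟶ Y) [IsClosedImmersion i] (h : i.ker = ⊥) : IsIso i := by
  have h1 : IsClosedImmersion.lift i (𝟙 Y) (by rw [h]; exact bot_le) ≫ i = 𝟙 Y :=
    IsClosedImmersion.lift_fac _ _ _
  refine ⟨IsClosedImmersion.lift i (𝟙 Y) (by rw [h]; exact bot_le), ?_, h1⟩
  rw [← cancel_mono i, Category.assoc, h1]
  simp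

theorem ker_id : (𝟙 Y : Y ⟶ Y).ker = ⊥ := by
  rw [← Scheme.IdealSheafData.map_bot, Scheme.IdealSheafData.map_id]

theorem comap_sSup (s : Set Y.IdealSheafData) (f : X ⟶ Y) :
    (sSup s).comap f = sSup ((fun I => I.comap f) '' s) := by
  rw [(Scheme.IdealSheafData.map_gc f).l_sSup, sSup_image]

end scheme

variable {S : Scheme.{u}}

/-- A compatible family of ideal sheaves on the schemes over the sheaf `Y`. -/
@[ext]
structure Fam (Y : Sp S) where
  /-- the ideal sheaves -/
  I : ∀ {T : Over S}, ((yon S).obj T ⟶ Y) → T.left.IdealSheafData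
  comap : ∀ {T T' : Over S} (φ : T' ⟶ T) (g : (yon S).obj T ⟶ Y), I ((yon S).map φ ≫ g) = (I g).comap φ.left

namespace Fam

variable {Y : Sp S}

instance : PartialOrder (Fam Y) where
  le A B := ∀ (T : Over S) (g : (yon S).obj T ⟶ Y), A.I g ≤ B.I g
  le_refl A T g := le_rfl
  le_trans A B C h1 h2 T g := (h1 T g).trans (h2 T g)
  le_antisymm A B h1 h2 := by
    ext T g : 3
    exact le_antisymm (h1 T g) (h2 T g)

theorem le_def {A B : Fam Y} : A ≤ B ↔ ∀ (T : Over S) (g : (yon S).obj T ⟶ Y), A.I g ≤ B.I g := Iff.rfl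

/-- Vanishing of the ideal is local for the fppf topology. -/
theorem eq_bot_of_sieve (A : Fam Y) {T : Over S} (g : (yon S).obj T ⟶ Y) {R : Sieve T} (hR : R ∈ J S T)
    (h : ∀ (T' : Over S) (φ : T' ⟶ T), R φ → A.I ((yon S).map φ ≫ g) = ⊥) : A.I g = ⊥ := by
  obtain ⟨T', q, hq, h1, h2, h3⟩ := exists_family_of_mem hR
  have hc : IsQCov (fun t => (q t).left) := IsQCov.of_flat h1 h2 fun y => ⟨y, h3 y⟩
  refine hc.ideal_ext fun t => ?_
  rw [← A.comap, h _ _ (hq t), Scheme.IdealSheafData.comap_bot]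

/-- The property "the ideal is zero". -/
def subQ (A : Fam Y) : SubQ Y where
  Q g := A.I g = ⊥
  comp φ g h := by rw [A.comap, h, Scheme.IdealSheafData.comap_bot]
  loc g R hR h := A.eq_bot_of_sieve g hR h

/-- The closed subspace of a family of ideals. -/
def sheaf (A : Fam Y) : Sp S := A.subQ.sheaf

/-- Its inclusion. -/
def ι (A : Fam Y) : A.sheaf ⟶ Y := A.subQ.ι

instance mono_ι (A : Fam Y) : Mono A.ι := A.subQ.mono_ι

theorem factors_yon_iff' (A : Fam Y) {T : Over S} (g : (yon S).obj T ⟶ Y) :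
    (∃ k, k ≫ A.ι = g) ↔ A.I g = ⊥ := A.subQ.factors_yon_iff g

theorem factors_iff' (A : Fam Y) {G : Sp S} (f : G ⟶ Y) :
    (∃ k, k ≫ A.ι = f) ↔ ∀ (T : Over S) (g : (yon S).obj T ⟶ G), A.I (g ≫ f) = ⊥ := A.subQ.factors_iff f

theorem exists_isPullback (A : Fam Y) {T : Over S} (g : (yon S).obj T ⟶ Y) :
    ∃ fst : (yon S).obj (Over.mk ((A.I g).subschemeι ≫ T.hom)) ⟶ A.sheaf,
      IsPullback fst ((yon S).map (Over.homMk (A.I g).subschemeι rfl :
        Over.mk ((A.I g).subschemeι ≫ T.hom) ⟶ T)) A.ι g := by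
  let s : Over.mk ((A.I g).subschemeι ≫ T.hom) ⟶ T := Over.homMk (A.I g).subschemeι rfl
  have hs : Mono s := (Over.forget S).mono_of_mono_map (inferInstanceAs (Mono (A.I g).subschemeι))
  have hs' : Mono ((yon S).map s) := mono_of_yon fun T' a b hab => by
    obtain ⟨a, rfl⟩ := (yon S).map_surjective a
    obtain ⟨b, rfl⟩ := (yon S).map_surjective b
    rw [← Functor.map_comp, ← Functor.map_comp] at hab
    rw [(cancel_mono s).1 ((yon S).map_injective hab)]
  obtain ⟨fst, hfst⟩ := (A.factors_yon_iff' ((yon S).map s ≫ g)).2 (by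
    rw [A.comap]
    exact subschemeι_comap_self _)
  refine ⟨fst, isPullback_of_mono_test hfst fun T' b hb => ?_⟩
  rw [A.factors_yon_iff'] at hb
  obtain ⟨b, rfl⟩ := (yon S).map_surjective b
  rw [A.comap] at hb
  obtain ⟨k, hk⟩ := exists_lift_subschemeι _ _ hb
  let k' : T' ⟶ Over.mk ((A.I g).subschemeι ≫ T.hom) := Over.homMk k (by
    change k ≫ (A.I g).subschemeι ≫ T.hom = T'.hom
    rw [← Category.assoc, hk, Over.w])
  refine ⟨(yon S).map k', ?_⟩
  rw [← Functor.map_comp]
  congr 1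
  exact Over.OverMorphism.ext hk

theorem repWith_ι (A : Fam Y) : RepWith @IsClosedImmersion A.ι := by
  refine MorphismProperty.relative.of_exists fun T g => ?_
  obtain ⟨fst, h⟩ := A.exists_isPullback g
  exact ⟨_, fst, _, h, inferInstanceAs (IsClosedImmersion (A.I g).subschemeι)⟩

theorem isAlgSpace_sheaf (A : Fam Y) (hY : IsAlgSpace Y) : IsAlgSpace A.sheaf :=
  isAlgSpace_of_repWith_isClosedImmersion A.repWith_ι hY

end Fam

variable {Y Z Z' : Sp S}

theorem ker_of_isPullback {i : Z ⟶ Y} (hi : RepWith @IsClosedImmersion i) {T V V' : Over S}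
    {g : (yon S).obj T ⟶ Y} {fst : (yon S).obj V ⟶ Z} {snd : V ⟶ T} (sq : IsPullback fst ((yon S).map snd) i g)
    {T' : Over S} {φ : T' ⟶ T} {fst' : (yon S).obj V' ⟶ Z} {snd' : V' ⟶ T'}
    (sq' : IsPullback fst' ((yon S).map snd') i ((yon S).map φ ≫ g)) :
    snd'.left.ker = snd.left.ker.comap φ.left := by
  obtain ⟨ψ, -, h⟩ := exists_isPullback_of_comp sq sq'
  have : IsClosedImmersion snd.left := hi.2 _ _ _ sq
  exact ker_eq_comap_of_isPullback (forget_isPullback h)

/-- The family of ideals of a representable closed immersion. -/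
noncomputable def ofClosed (i : Z ⟶ Y) (hi : RepWith @IsClosedImmersion i) : Fam Y where
  I g := (hi.1.snd g).left.ker
  comap φ g := ker_of_isPullback hi (hi.1.isPullback g) (hi.1.isPullback _)

/-- The ideal of a closed subspace is the kernel of any represented pullback. -/
theorem ofClosed_eq {i : Z ⟶ Y} (hi : RepWith @IsClosedImmersion i) {T V : Over S}
    {g : (yon S).obj T ⟶ Y} {fst : (yon S).obj V ⟶ Z} {snd : V ⟶ T}
    (sq : IsPullback fst ((yon S).map snd) i g) : (ofClosed i hi).I g = snd.left.ker := by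
  have sq' : IsPullback (hi.1.fst g) ((yon S).map (hi.1.snd g)) i ((yon S).map (𝟙 T) ≫ g) := by
    rw [(yon S).map_id, Category.id_comp]
    exact hi.1.isPullback g
  have h := ker_of_isPullback hi sq sq'
  rw [Over.id_left, Scheme.IdealSheafData.comap_id] at h
  exact h

theorem ofClosed_ι (A : Fam Y) : ofClosed A.ι A.repWith_ι = A := by
  ext T g : 3
  obtain ⟨fst, h⟩ := A.exists_isPullback g
  rw [ofClosed_eq A.repWith_ι h]
  exact Scheme.IdealSheafData.ker_subschemeι _

/-- A map from a scheme factors through a closed subspace iff the ideal vanishes. -/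
theorem factors_yon_iff {i : Z ⟶ Y} (hi : RepWith @IsClosedImmersion i) {T : Over S}
    (g : (yon S).obj T ⟶ Y) : (∃ k, k ≫ i = g) ↔ (ofClosed i hi).I g = ⊥ := by
  have sq := hi.1.isPullback g
  have hcl : IsClosedImmersion (hi.1.snd g).left := hi.2 _ _ _ sq
  constructor
  · rintro ⟨k, hk⟩
    have h1 : hi.1.lift (g := g) k (𝟙 T) (by simp [hk]) ≫ hi.1.snd g = 𝟙 T := hi.1.lift_snd _ _ _
    have h2 : (hi.1.lift (g := g) k (𝟙 T) (by simp [hk])).left ≫ (hi.1.snd g).left = 𝟙 T.left := by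
      rw [← Over.comp_left, h1, Over.id_left]
    rw [eq_bot_iff]
    change (hi.1.snd g).left.ker ≤ ⊥
    rw [← ker_id, ← h2]
    exact Scheme.Hom.le_ker_comp _ _
  · intro h
    have h1 : IsIso (hi.1.snd g).left := isIso_of_ker_eq_bot _ h
    have h1' : IsIso ((Over.forget S).map (hi.1.snd g)) := h1
    have h2 : IsIso (hi.1.snd g) := isIso_of_reflects_iso (hi.1.snd g) (Over.forget S)
    refine ⟨(yon S).map (inv (hi.1.snd g)) ≫ hi.1.fst g, ?_⟩
    rw [Category.assoc, sq.w, ← Category.assoc, ← Functor.map_comp, IsIso.inv_hom_id, (yon S).map_id,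
      Category.id_comp]

theorem factors_iff {i : Z ⟶ Y} (hi : RepWith @IsClosedImmersion i) {G : Sp S} (f : G ⟶ Y) :
    (∃ k, k ≫ i = f) ↔ ∀ (T : Over S) (g : (yon S).obj T ⟶ G), (ofClosed i hi).I (g ≫ f) = ⊥ := by
  have := mono_of_repWith_isClosedImmersion hi
  rw [factors_mono_iff]
  simp only [factors_yon_iff hi]

theorem ofClosed_self {i : Z ⟶ Y} (hi : RepWith @IsClosedImmersion i) {T : Over S}
    (g : (yon S).obj T ⟶ Z) : (ofClosed i hi).I (g ≫ i) = ⊥ := (factors_yon_iff hi _).1 ⟨g, rfl⟩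

/-- Inclusions of closed subspaces. -/
theorem exists_hom_iff_le {i : Z ⟶ Y} (hi : RepWith @IsClosedImmersion i) {i' : Z' ⟶ Y}
    (hi' : RepWith @IsClosedImmersion i') : (∃ k : Z ⟶ Z', k ≫ i' = i) ↔ ofClosed i' hi' ≤ ofClosed i hi := by
  constructor
  · rintro ⟨k, hk⟩ T g
    change _ ≤ (hi.1.snd g).left.ker
    rw [le_ker_iff, ← (ofClosed i' hi').comap, ← (hi.1.isPullback g).w]
    exact (factors_yon_iff hi' _).1 ⟨hi.1.fst g ≫ k, by rw [Category.assoc, hk]⟩
  · intro h
    rw [factors_iff hi']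
    intro T g
    rw [eq_bot_iff, ← ofClosed_self hi g]
    exact h _ _

/-- Two closed subspaces with the same ideals are isomorphic. -/
theorem exists_iso_of_eq {i : Z ⟶ Y} (hi : RepWith @IsClosedImmersion i) {i' : Z' ⟶ Y}
    (hi' : RepWith @IsClosedImmersion i') (h : ofClosed i hi = ofClosed i' hi') :
    ∃ e : Z ≅ Z', e.hom ≫ i' = i ∧ e.inv ≫ i = i' := by
  have := mono_of_repWith_isClosedImmersion hi
  have := mono_of_repWith_isClosedImmersion hi'
  obtain ⟨k, hk⟩ := (exists_hom_iff_le hi hi').2 h.ge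
  obtain ⟨k', hk'⟩ := (exists_hom_iff_le hi' hi).2 h.le
  exact ⟨⟨k, k', by rw [← cancel_mono i, Category.assoc, hk', hk, Category.id_comp],
    by rw [← cancel_mono i', Category.assoc, hk, hk', Category.id_comp]⟩, hk, hk'⟩

/-- A closed subspace with zero ideals is everything. -/
theorem isIso_of_eq_bot {i : Z ⟶ Y} (hi : RepWith @IsClosedImmersion i)
    (h : ∀ (T : Over S) (g : (yon S).obj T ⟶ Y), (ofClosed i hi).I g = ⊥) : IsIso i := by
  have := mono_of_repWith_isClosedImmersion hi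
  obtain ⟨k, hk⟩ := (factors_iff hi (𝟙 Y)).2 fun T g => by rw [Category.comp_id]; exact h T g
  exact ⟨k, by rw [← cancel_mono i, Category.assoc, hk, Category.comp_id, Category.id_comp], hk⟩

/-- The ideals of a pulled back closed subspace. -/
theorem ofClosed_of_isPullback {W P : Sp S} {i : Z ⟶ Y} (hi : RepWith @IsClosedImmersion i) {f : W ⟶ Y}
    {a : P ⟶ Z} {b : P ⟶ W} (sq : IsPullback a b i f) (hb : RepWith @IsClosedImmersion b) {T : Over S}
    (g : (yon S).obj T ⟶ W) : (ofClosed b hb).I g = (ofClosed i hi).I (g ≫ f) := by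
  have sq1 := hb.1.isPullback g
  have sq2 := sq1.paste_horiz sq
  rw [ofClosed_eq hi sq2]
  rfl

namespace Fam

/-- The intersection of a class of closed subspaces: the supremum of the ideals. -/
noncomputable def sSup (s : Fam Y → Prop) : Fam Y where
  I g := SupSet.sSup {I | ∃ A : Fam Y, s A ∧ A.I g = I}
  comap φ g := by
    rw [comap_sSup]
    congr 1
    ext I
    constructor
    · rintro ⟨A, hA, rfl⟩
      exact ⟨A.I g, ⟨A, hA, rfl⟩, (A.comap φ g).symm⟩
    · rintro ⟨_, ⟨A, hA, rfl⟩, rfl⟩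
      exact ⟨A, hA, A.comap φ g⟩

theorem le_sSup {s : Fam Y → Prop} {A : Fam Y} (h : s A) : A ≤ sSup s := fun _ _ =>
  _root_.le_sSup ⟨A, h, rfl⟩

theorem sSup_le {s : Fam Y → Prop} {B : Fam Y} (h : ∀ A, s A → A ≤ B) : sSup s ≤ B := fun T g => by
  refine _root_.sSup_le ?_
  rintro _ ⟨A, hA, rfl⟩
  exact h A hA T g

end Fam

end K598.ClFam
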