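import Groth.Agent.AlgSp.K598.ClFam
import Groth.Agent.AlgSp.K609.Points

/-!
# Families of charts of a sheaf, descent of closed subspaces along them

* `ChartFam p`: a jointly surjective family of flat, locally finitely presented representable maps `h_{V j} ⟶ Y`.
* `exists_affine_charts`: an algebraic space has such a family with all `V j` affine and `p j` etale.
* `ChartFam.isQCov`: its base change to a scheme is a `QCov`.
* `ChartFam.exists_fam`: a compatible family of ideals on the `V j` comes from a unique closed subspace.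
-/

set_option autoImplicit false
universe u
open CategoryTheory CategoryTheory.Limits AlgebraicGeometry Opposite
open AlgSp K598.Site K598.RepKit K598.ClFam
open Groth.Agent.RedSub.H647.QCov

namespace K598.Charts

variable {S : Scheme.{u}} {X Y Z : Sp S}

/-- A jointly surjective family of representable, flat, locally finitely presented maps from schemes. -/
structure ChartFam {ι : Type u} {V : ι → Over S} (p : ∀ j, (yon S).obj (V j) ⟶ Y) : Prop where
  flat : ∀ j, RepWith @Flat (p j)
  lfp : ∀ j, RepWith @LocallyOfFinitePresentation (p j)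
  surj : ∀ y : Points Y, ∃ (j : ι) (v : ↥(V j).left), Points.ofPt (p j) v = y

theorem repWith_flat_of_etale {f : X ⟶ Y} (h : RepWith @Etale f) : RepWith @Flat f :=
  repWith_mono (fun _ _ _ h => by have := h; infer_instance) h

theorem repWith_lfp_of_etale {f : X ⟶ Y} (h : RepWith @Etale f) : RepWith @LocallyOfFinitePresentation f :=
  repWith_mono (fun _ _ _ h => by have := h; infer_instance) h

theorem ChartFam.of_etale {ι : Type u} {V : ι → Over S} {p : ∀ j, (yon S).obj (V j) ⟶ Y}
    (h : ∀ j, RepWith @Etale (p j)) (hs : ∀ y : Points Y, ∃ (j : ι) (v : ↥(V j).left), Points.ofPt (p j) v = y) :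
    ChartFam p := ⟨fun j => repWith_flat_of_etale (h j), fun j => repWith_lfp_of_etale (h j), hs⟩

/-- One etale surjective chart. -/
theorem ChartFam.single {V : Over S} {p : (yon S).obj V ⟶ Y} (h : RepWith @Etale p) (hs : RepWith @Surjective p) :
    ChartFam (ι := PUnit.{u+1}) (V := fun _ => V) (fun _ => p) :=
  ChartFam.of_etale (fun _ => h) fun y => by
    obtain ⟨v, hv⟩ := K609.Points.surjective_ofPt_of_repWith_surjective hs y
    exact ⟨PUnit.unit, v, hv⟩

/-- The open subscheme `U` of a scheme `T` over `S`, over `S`. -/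
abbrev opn (T : Over S) (U : T.left.Opens) : Over S := Over.mk (U.ι ≫ T.hom)

/-- Its inclusion. -/
abbrev opnι (T : Over S) (U : T.left.Opens) : opn T U ⟶ T := Over.homMk U.ι rfl

theorem repWith_yon_map {P : MorphismProperty Scheme.{u}} [P.IsStableUnderBaseChange] {U V : Over S} {g : U ⟶ V}
    (h : P g.left) : RepWith P ((yon S).map g) := (repWith_yon_map_iff P g).2 h

theorem repWith_etale_opnι (T : Over S) (U : T.left.Opens) : RepWith @Etale ((yon S).map (opnι T U)) :=
  repWith_yon_map (inferInstanceAs (Etale U.ι))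

/-- An algebraic space is covered by etale charts from affine schemes. -/
theorem exists_affine_charts (hY : IsAlgSpace Y) :
    ∃ (ι : Type u) (V : ι → Over S) (p : ∀ j, (yon S).obj (V j) ⟶ Y), (∀ j, RepWith @Etale (p j)) ∧
      (∀ j, IsAffine (V j).left) ∧ (∀ y : Points Y, ∃ (j : ι) (v : ↥(V j).left), Points.ofPt (p j) v = y) := by
  obtain ⟨U, p, h1, h2⟩ := hY.atlas
  refine ⟨U.left.affineOpens, fun j => opn U j.1, fun j => (yon S).map (opnι U j.1) ≫ p, fun j => ?_,
    fun j => j.2, fun y => ?_⟩
  · exact MorphismProperty.comp_mem _ _ _ (repWith_etale_opnι U j.1) h1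
  · obtain ⟨v, hv⟩ := K609.Points.surjective_ofPt_of_repWith_surjective h2 y
    obtain ⟨W, hW, hvW, -⟩ := exists_isAffineOpen_mem_and_subset (x := v) (U := ⊤) trivial
    refine ⟨⟨W, hW⟩, ⟨v, hvW⟩, ?_⟩
    rw [K609.Points.ofPt_yon_map_comp]
    exact hv

section fam

variable {ι : Type u} {V : ι → Over S} {p : ∀ j, (yon S).obj (V j) ⟶ Y}

theorem ChartFam.exists_point (hp : ChartFam p) {T : Over S} (g : (yon S).obj T ⟶ Y) {P : ι → Over S}
    {r : ∀ j, P j ⟶ V j} {q : ∀ j, P j ⟶ T}
    (sq : ∀ j, IsPullback ((yon S).map (r j)) ((yon S).map (q j)) (p j) g) (t : ↥T.left) :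
    ∃ (j : ι) (x : ↥(P j).left), (q j).left x = t := by
  obtain ⟨j, v, hv⟩ := hp.surj (Points.ofPt g t)
  obtain ⟨x, -, hx⟩ := (K609.Points.ofPt_eq_ofPt_iff (sq j) v t).1 hv
  exact ⟨j, x, hx⟩

theorem ChartFam.isQCov (hp : ChartFam p) {T : Over S} (g : (yon S).obj T ⟶ Y) {P : ι → Over S}
    {r : ∀ j, P j ⟶ V j} {q : ∀ j, P j ⟶ T}
    (sq : ∀ j, IsPullback ((yon S).map (r j)) ((yon S).map (q j)) (p j) g) : IsQCov (fun j => (q j).left) :=
  IsQCov.of_flat (fun j => (hp.flat j).2 _ _ _ (sq j)) (fun j => (hp.lfp j).2 _ _ _ (sq j))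
    (hp.exists_point g sq)

/-- Represented pullbacks of the charts. -/
theorem exists_pullbacks (hp : ∀ j, Representable (p j)) {T : Over S} (g : (yon S).obj T ⟶ Y) :
    ∃ (P : ι → Over S) (r : ∀ j, P j ⟶ V j) (q : ∀ j, P j ⟶ T),
      ∀ j, IsPullback ((yon S).map (r j)) ((yon S).map (q j)) (p j) g := by
  refine ⟨fun j => (hp j).pullback g, fun j => (hp j).fst' g, fun j => (hp j).snd g, fun j => ?_⟩
  exact (hp j).isPullback' g

/-- Descent of closed subspaces along a family of charts. -/
theorem ChartFam.exists_fam (hp : ChartFam p) (I : ∀ j, (V j).left.IdealSheafData)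
    (hI : ∀ (j k : ι) (R : Over S) (a : R ⟶ V j) (b : R ⟶ V k), (yon S).map a ≫ p j = (yon S).map b ≫ p k →
      (I j).comap a.left = (I k).comap b.left) :
    ∃ A : Fam Y, ∀ j, A.I (p j) = I j := by
  have key : ∀ (T : Over S) (g : (yon S).obj T ⟶ Y), ∃! K : T.left.IdealSheafData,
      ∀ (j : ι) (R : Over S) (a : R ⟶ V j) (b : R ⟶ T), (yon S).map a ≫ p j = (yon S).map b ≫ g →
        K.comap b.left = (I j).comap a.left := by
    intro T g
    obtain ⟨P, r, q, sq⟩ := exists_pullbacks (fun j => (hp.flat j).1) g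
    have hc := hp.isQCov g sq
    obtain ⟨K, hK, hK'⟩ := hc.existsUnique_ideal (fun j => (I j).comap (r j).left) (by
      intro j k R a b hab
      let R' : Over S := Over.mk (a ≫ (q j).left ≫ T.hom)
      let a' : R' ⟶ P j := Over.homMk a (by
        change a ≫ (P j).hom = a ≫ (q j).left ≫ T.hom
        rw [Over.w])
      let b' : R' ⟶ P k := Over.homMk b (by
        change b ≫ (P k).hom = a ≫ (q j).left ≫ T.hom
        rw [← Category.assoc, hab, Category.assoc, Over.w])
      have hab' : a' ≫ q j = b' ≫ q k := Over.OverMorphism.ext hab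
      rw [← Scheme.IdealSheafData.comap_comp, ← Scheme.IdealSheafData.comap_comp]
      refine hI j k R' (a' ≫ r j) (b' ≫ r k) ?_
      rw [Functor.map_comp, Category.assoc, (sq j).w, Functor.map_comp, Category.assoc, (sq k).w,
        ← Category.assoc, ← Category.assoc, ← Functor.map_comp, ← Functor.map_comp, hab'])
    refine ⟨K, fun j R a b hab => ?_, fun K' h => hK' K' fun j => h j _ _ _ (sq j).w⟩
    obtain ⟨c, hc⟩ := (yon S).map_surjective ((sq j).lift _ _ hab)
    have h1 : c ≫ r j = a := (yon S).map_injective (by rw [Functor.map_comp, hc, IsPullback.lift_fst])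
    have h2 : c ≫ q j = b := (yon S).map_injective (by rw [Functor.map_comp, hc, IsPullback.lift_snd])
    rw [← h1, ← h2, Over.comp_left, Over.comp_left, Scheme.IdealSheafData.comap_comp,
      Scheme.IdealSheafData.comap_comp, hK]
  choose K hK hK' using key
  refine ⟨⟨fun {T} g => K T g, ?_⟩, fun j => ?_⟩
  · intro T T' φ g
    refine (hK' T' ((yon S).map φ ≫ g) _ ?_).symm
    intro j R a b hab
    rw [← Scheme.IdealSheafData.comap_comp, ← Over.comp_left]
    refine hK T g j R a (b ≫ φ) ?_
    rw [hab, Functor.map_comp, Category.assoc]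
  · refine (hK' (V j) (p j) _ ?_).symm
    intro k R a b hab
    exact (hI k j R a b hab).symm

/-- Inclusions between closed subspaces can be tested on charts. -/
theorem ChartFam.le_of_le (hp : ChartFam p) {A B : Fam Y} (h : ∀ j, A.I (p j) ≤ B.I (p j)) : A ≤ B := by
  intro T g
  obtain ⟨P, r, q, sq⟩ := exists_pullbacks (fun j => (hp.flat j).1) g
  refine (hp.isQCov g sq).ideal_le fun j => ?_
  rw [← A.comap, ← B.comap, ← (sq j).w, A.comap, B.comap]
  exact Scheme.IdealSheafData.comap_mono _ (h j)

theorem ChartFam.fam_ext (hp : ChartFam p) {A B : Fam Y} (h : ∀ j, A.I (p j) = B.I (p j)) : A = B :=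
  le_antisymm (hp.le_of_le fun j => (h j).le) (hp.le_of_le fun j => (h j).ge)

/-- Factorisation of `f : X ⟶ Y` through a closed subspace can be tested on charts of the source. -/
theorem ChartFam.vanish (hp : ChartFam p) (A : Fam X) (f : Y ⟶ X) (h : ∀ j, A.I (p j ≫ f) = ⊥) (T : Over S)
    (g : (yon S).obj T ⟶ Y) : A.I (g ≫ f) = ⊥ := by
  obtain ⟨P, r, q, sq⟩ := exists_pullbacks (fun j => (hp.flat j).1) g
  refine (hp.isQCov g sq).ideal_ext fun j => ?_
  rw [← A.comap, ← Category.assoc, ← (sq j).w, Category.assoc, A.comap, h,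
    Scheme.IdealSheafData.comap_bot, Scheme.IdealSheafData.comap_bot]

end fam

end K598.Charts
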