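import Groth.Agent.Ega4late.H537.SchDensePull
import Groth.Agent.Ega4dB.SchDense

/-!
# Schematic density of opens of schemes

Germwise form, intersections, locality for jointly surjective flat families, the quasi-compact case.
-/

set_option autoImplicit false
universe u
open CategoryTheory CategoryTheory.Limits AlgebraicGeometry TopologicalSpace

namespace K598.DensSch

open Groth.Agent.Ega4late.H537.SchDensePull

variable {X Y : Scheme.{u}}

/-- Germwise form of schematic density. -/
theorem isSchematicallyDense_iff (V : X.Opens) : CInt.IsSchematicallyDense V ↔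
    ∀ (W : X.Opens) (s : Γ(X, W)), (∀ x (hx : x ∈ W), x ∈ V → X.presheaf.germ W x hx s = 0) → s = 0 := by
  refine ⟨fun h W s hs => eq_zero_of_isSchematicallyDense h W s hs, fun h W => ?_⟩
  rw [injective_iff_map_eq_zero]
  intro s hs
  refine h W s fun x hx hxV => ?_
  have h1 := congrArg (X.presheaf.germ (W ⊓ V) x ⟨hx, hxV⟩) hs
  rw [← CommRingCat.comp_apply, X.presheaf.germ_res, map_zero] at h1
  exact h1

theorem isSchematicallyDense_inf {V V' : X.Opens} (hV : CInt.IsSchematicallyDense V)
    (hV' : CInt.IsSchematicallyDense V') : CInt.IsSchematicallyDense (V ⊓ V') := by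
  rw [isSchematicallyDense_iff] at hV hV' ⊢
  intro W s hs
  refine hV W s fun x hx hxV => ?_
  let t : Γ(X, W ⊓ V) := X.presheaf.map (homOfLE (inf_le_left : W ⊓ V ≤ W)).op s
  have ht : t = 0 := hV' (W ⊓ V) t fun y hy hyV' => by
    simp only [t]
    rw [← CommRingCat.comp_apply, X.presheaf.germ_res]
    exact hs y hy.1 ⟨hy.2, hyV'⟩
  have h1 := congrArg (X.presheaf.germ (W ⊓ V) x ⟨hx, hxV⟩) ht
  simp only [t] at h1
  rw [← CommRingCat.comp_apply, X.presheaf.germ_res, map_zero] at h1
  exact h1

theorem isSchematicallyDense_mono {V V' : X.Opens} (h : V ≤ V') (hV : CInt.IsSchematicallyDense V) :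
    CInt.IsSchematicallyDense V' := by
  rw [isSchematicallyDense_iff] at hV ⊢
  exact fun W s hs => hV W s fun x hx hxV => hs x hx (h hxV)

theorem isSchematicallyDense_top : CInt.IsSchematicallyDense (⊤ : X.Opens) := by
  rw [isSchematicallyDense_iff]
  exact fun W s hs => eq_zero_of_forall_germ W s fun x hx => hs x hx trivial

/-- Descent of schematic density along jointly surjective families of flat morphisms. -/
theorem isSchematicallyDense_of_family {ι : Type*} {U : ι → Scheme.{u}} (f : ∀ j, U j ⟶ X)
    (hf : ∀ j, Flat (f j)) (hs : ∀ x : X, ∃ (j : ι) (y : U j), f j y = x) (V : X.Opens)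
    (h : ∀ j, CInt.IsSchematicallyDense (f j ⁻¹ᵁ V)) : CInt.IsSchematicallyDense V := by
  rw [isSchematicallyDense_iff]
  intro W s hW
  apply eq_zero_of_forall_germ
  intro x hx
  obtain ⟨j, y, rfl⟩ := hs x
  have := hf j
  have h1 : (f j).app W s = 0 := by
    refine (isSchematicallyDense_iff _).1 (h j) _ _ fun z hz hzV => ?_
    have h2 := Scheme.Hom.germ_stalkMap_apply (f j) W z hz s
    rw [← h2, hW _ hz hzV, map_zero]
  have h3 : (f j).stalkMap y (X.presheaf.germ W (f j y) hx s) = 0 := by
    rw [Scheme.Hom.germ_stalkMap_apply, h1, map_zero]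
  have hinj : Function.Injective ((f j).stalkMap y) := by
    algebraize [((f j).stalkMap y).hom]
    have hfl : Module.Flat (X.presheaf.stalk (f j y)) ((U j).presheaf.stalk y) := Flat.stalkMap (f j) y
    have : IsLocalHom (algebraMap (X.presheaf.stalk (f j y)) ((U j).presheaf.stalk y)) :=
      inferInstanceAs (IsLocalHom ((f j).stalkMap y).hom)
    have := Module.FaithfullyFlat.of_flat_of_isLocalHom (A := X.presheaf.stalk (f j y))
      (B := (U j).presheaf.stalk y)
    exact FaithfulSMul.algebraMap_injective _ _
  exact (map_eq_zero_iff ((f j).stalkMap y).hom hinj).1 h3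

/-- A quasi-compact open whose inclusion has kernel zero is schematically dense. -/
theorem isSchematicallyDense_of_ker (V : X.Opens) [QuasiCompact V.ι] (h : V.ι.ker = ⊥) :
    CInt.IsSchematicallyDense V := by
  have : IsSchemeTheoreticallyDominant V.ι := ⟨h⟩
  rw [isSchematicallyDense_iff]
  intro W s hs
  refine V.ι.app_injective W ?_
  rw [map_zero]
  apply eq_zero_of_forall_germ
  intro x hx
  have h2 := Scheme.Hom.germ_stalkMap_apply V.ι W x hx s
  rw [← h2, hs _ hx x.2, map_zero]

theorem ker_of_isSchematicallyDense {V : X.Opens} (h : CInt.IsSchematicallyDense V) : V.ι.ker = ⊥ :=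
  (Groth.Agent.Ega4dB.SchDense.isSchemeTheoreticallyDominant_ι V h).ker_eq_bot

end K598.DensSch
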