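import Groth.Agent.AlgSp.K598.SchImg
import Groth.Agent.AlgSp.K598.DensSch

/-!
# Scheme theoretic density of open subspaces

* `IsPre j φ W`: the open `W` of `T` is the inverse image of the open subspace `j` under `φ : h_T ⟶ X`.
* `dense_of_chartFam`: density is transferred from a family of charts to any flat, locally finitely presented
  `h_T ⟶ X`.
* `isSchDense_iff`, `isSchDense_of_chartFam`.
* `isSchImage_id_of_isSchDense` and `isSchDense_of_isSchImage_id` (quasi-compact case).
-/

set_option autoImplicit false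
universe u
open CategoryTheory CategoryTheory.Limits AlgebraicGeometry Opposite
open AlgSp K598.Site K598.RepKit K598.ClFam K598.Charts K598.SchImg

namespace K598.Dens

variable {S : Scheme.{u}} {X Y Z U : Sp S}

/-- The open `W` of `T` is the inverse image of `j : U ⟶ X` under `φ : h_T ⟶ X`. -/
def IsPre (j : U ⟶ X) {T : Over S} (φ : (yon S).obj T ⟶ X) (W : T.left.Opens) : Prop :=
  ∃ fst : (yon S).obj (opn T W) ⟶ U, IsPullback fst ((yon S).map (opnι T W)) j φ

theorem exists_isPre {j : U ⟶ X} (hj : RepWith @IsOpenImmersion j) {T : Over S} (φ : (yon S).obj T ⟶ X) :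
    ∃ W : T.left.Opens, IsPre j φ W := by
  have sq := hj.1.isPullback φ
  set q := hj.1.snd φ with hq
  have hop : IsOpenImmersion q.left := hj.2 _ _ _ sq
  let W : T.left.Opens := q.left.opensRange
  let e : (hj.1.pullback φ).left ≅ (W : Scheme.{u}) := IsOpenImmersion.isoOfRangeEq q.left W.ι (by simp [W])
  have he : e.hom ≫ W.ι = q.left := IsOpenImmersion.isoOfRangeEq_hom_fac _ _ _
  let e' : hj.1.pullback φ ≅ opn T W := Over.isoMk e (by
    change e.hom ≫ W.ι ≫ T.hom = _
    rw [← Category.assoc, he, Over.w])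
  have he' : e'.inv ≫ q = opnι T W := by
    rw [Iso.inv_comp_eq]
    apply Over.OverMorphism.ext
    exact he.symm
  refine ⟨W, (yon S).map e'.inv ≫ hj.1.fst φ, ?_⟩
  refine sq.of_iso ((yon S).mapIso e') (Iso.refl _) (Iso.refl _) (Iso.refl _) ?_ ?_ ?_ ?_
  · simp
  · simp [← he', ← Functor.map_comp]
  · simp
  · simp

theorem IsPre.preimage {j : U ⟶ X} {T : Over S} {φ : (yon S).obj T ⟶ X} {W : T.left.Opens} (h : IsPre j φ W) :
    Points.ofPt φ ⁻¹' (Set.range (Points.map j)) = W := by
  obtain ⟨fst, sq⟩ := h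
  have h1 := K609.Points.preimage_image_map sq Set.univ
  rw [Set.image_univ, Set.preimage_univ, Set.image_univ] at h1
  rw [h1]
  exact Scheme.Opens.range_ι W

theorem IsPre.mem_iff {j : U ⟶ X} {T : Over S} {φ : (yon S).obj T ⟶ X} {W : T.left.Opens} (h : IsPre j φ W)
    (t : ↥T.left) : t ∈ W ↔ Points.ofPt φ t ∈ Set.range (Points.map j) := by
  rw [← SetLike.mem_coe, ← h.preimage, Set.mem_preimage]

theorem IsPre.eq {j : U ⟶ X} {T : Over S} {φ : (yon S).obj T ⟶ X} {W W' : T.left.Opens} (h : IsPre j φ W)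
    (h' : IsPre j φ W') : W = W' := by
  ext t
  rw [← h.preimage, ← h'.preimage]

theorem IsPre.comp {j : U ⟶ X} (hj : RepWith @IsOpenImmersion j) {T : Over S} {φ : (yon S).obj T ⟶ X}
    {W : T.left.Opens} (h : IsPre j φ W) {T' : Over S} (c : T' ⟶ T) :
    IsPre j ((yon S).map c ≫ φ) (c.left ⁻¹ᵁ W) := by
  obtain ⟨W', h'⟩ := exists_isPre hj ((yon S).map c ≫ φ)
  have : W' = c.left ⁻¹ᵁ W := by
    ext t
    change t ∈ W' ↔ c.left t ∈ W
    rw [h'.mem_iff, h.mem_iff, K609.Points.ofPt_yon_map_comp]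
  rwa [← this]

/-- Inverse images in a base change. -/
theorem IsPre.of_isPullback {X' U' : Sp S} {j : U ⟶ X} {j' : U' ⟶ X'} {f' : U' ⟶ U} {f : X' ⟶ X}
    (sq : IsPullback f' j' j f) {T : Over S} {φ : (yon S).obj T ⟶ X'} {W : T.left.Opens}
    (h : IsPre j (φ ≫ f) W) : IsPre j' φ W := by
  obtain ⟨fst, h⟩ := h
  refine ⟨sq.lift fst ((yon S).map (opnι T W) ≫ φ) (by rw [h.w, Category.assoc]), ?_⟩
  exact IsPullback.of_right (by rwa [sq.lift_fst]) (sq.lift_snd _ _ _) sq

/-- The inverse image in a chart of the base is that of the composition. -/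
theorem IsPre.of_isPullback' {X' U' : Sp S} {j : U ⟶ X} {j' : U' ⟶ X'} {f' : U' ⟶ U} {f : X' ⟶ X}
    (sq : IsPullback f' j' j f) {T : Over S} {φ : (yon S).obj T ⟶ X'} {W : T.left.Opens}
    (h : IsPre j' φ W) : IsPre j (φ ≫ f) W := by
  obtain ⟨fst, h⟩ := h
  exact ⟨fst ≫ f', h.paste_horiz sq⟩

/-- Transfer of schematic density. -/
theorem dense_of_chartFam {j : U ⟶ X} (hj : RepWith @IsOpenImmersion j) {ι : Type u} {V : ι → Over S}
    {p : ∀ k, (yon S).obj (V k) ⟶ X} (hp : ChartFam p) {W : ∀ k, (V k).left.Opens} (hW : ∀ k, IsPre j (p k) (W k))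
    (hd : ∀ k, CInt.IsSchematicallyDense (W k)) {T : Over S} {φ : (yon S).obj T ⟶ X} (h1 : RepWith @Flat φ)
    (h2 : RepWith @LocallyOfFinitePresentation φ) {W' : T.left.Opens} (hW' : IsPre j φ W') :
    CInt.IsSchematicallyDense W' := by
  obtain ⟨P, r, q, sq⟩ := exists_pullbacks (fun k => (hp.flat k).1) φ
  refine DensSch.isSchematicallyDense_of_family (fun k => (q k).left)
    (fun k => (hp.flat k).2 _ _ _ (sq k)) (hp.exists_point φ sq) W' fun k => ?_
  have e1 := hW'.comp hj (q k)
  have e2 := (hW k).comp hj (r k)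
  rw [(sq k).w] at e2
  rw [e1.eq e2]
  have : Flat (r k).left := h1.2 _ _ _ (sq k).flip
  have : LocallyOfFinitePresentation (r k).left := h2.2 _ _ _ (sq k).flip
  exact Groth.Agent.Ega4late.H537.SchDensePull.isSchematicallyDense_preimage _ _ (hd k)

theorem isSchDense_of_chartFam (hX : IsAlgSpace X) {j : U ⟶ X} (hj : RepWith @IsOpenImmersion j) {ι : Type u}
    {V : ι → Over S} {p : ∀ k, (yon S).obj (V k) ⟶ X} (hp : ChartFam p) {W : ∀ k, (V k).left.Opens}
    (hW : ∀ k, IsPre j (p k) (W k)) (hd : ∀ k, CInt.IsSchematicallyDense (W k)) : IsSchDense j := by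
  obtain ⟨T, φ, h1, h2⟩ := hX.atlas
  obtain ⟨W', fst, hW'⟩ := exists_isPre hj φ
  exact ⟨hj, T, φ, W', fst, h1, h2, hW', dense_of_chartFam hj hp hW hd (repWith_flat_of_etale h1)
    (repWith_lfp_of_etale h1) ⟨fst, hW'⟩⟩

/-- An open subspace which is schematically dense is so on every flat, locally finitely presented chart. -/
theorem dense_of_isSchDense {j : U ⟶ X} (hj : IsSchDense j) {T : Over S} {φ : (yon S).obj T ⟶ X}
    (h1 : RepWith @Flat φ) (h2 : RepWith @LocallyOfFinitePresentation φ) {W' : T.left.Opens}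
    (hW' : IsPre j φ W') : CInt.IsSchematicallyDense W' := by
  obtain ⟨hj, V, p, W, fst, hp1, hp2, hW, hd⟩ := hj
  exact dense_of_chartFam hj (ChartFam.single hp1 hp2) (W := fun _ => W) (fun _ => ⟨fst, hW⟩) (fun _ => hd) h1 h2 hW'

theorem ofClosed_id_eq_bot (T : Over S) (g : (yon S).obj T ⟶ X) (hi : RepWith @IsClosedImmersion (𝟙 X)) :
    (ofClosed (𝟙 X) hi).I g = ⊥ := by
  have := ofClosed_self hi g
  rwa [Category.comp_id] at this

theorem repWith_closed_id (X : Sp S) : RepWith @IsClosedImmersion (𝟙 X) := repWith_of_isIso _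

/-- `IsSchImage f (𝟙 Y)` iff only the zero family vanishes on `f`. -/
theorem isSchImage_id_iff (hY : IsAlgSpace Y) (f : X ⟶ Y) : IsSchImage f (𝟙 Y) ↔
    ∀ A : Fam Y, Vanish f A → ∀ (T : Over S) (g : (yon S).obj T ⟶ Y), A.I g = ⊥ := by
  rw [isSchImage_iff hY]
  constructor
  · rintro ⟨hi, -, h⟩ A hA T g
    rw [eq_bot_iff]
    exact (h A hA T g).trans (ofClosed_id_eq_bot T g hi).le
  · intro h
    refine ⟨repWith_closed_id Y, fun T w => ofClosed_id_eq_bot _ _ _, fun A hA T g => ?_⟩
    rw [h A hA T g]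
    exact bot_le

theorem isSchImage_id_of_isSchDense (hX : IsAlgSpace X) {j : U ⟶ X} (hj : IsSchDense j) :
    IsSchImage j (𝟙 X) := by
  rw [isSchImage_id_iff hX]
  intro A hA T g
  obtain ⟨hj, V, p, W, fst, hp1, hp2, hW, hd⟩ := hj
  have h1 := (ChartFam.single hp1 hp2).vanish A (𝟙 X) (fun _ => ?_) T g
  · rwa [Category.comp_id] at h1
  rw [Category.comp_id, eq_bot_iff, ← DensSch.ker_of_isSchematicallyDense hd, le_ker_iff]
  change Scheme.IdealSheafData.comap _ (opnι V W).left = ⊥
  rw [← A.comap, ← hW.w]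
  exact hA _ _

theorem isSchDense_of_isSchImage_id (hX : IsAlgSpace X) {j : U ⟶ X} (hj : RepWith @IsOpenImmersion j)
    (hq : IsQuasiCompactMor j) (h : IsSchImage j (𝟙 X)) : IsSchDense j := by
  obtain ⟨ι, V, p, h1, h2, h3⟩ := exists_affine_charts hX
  choose W fst hW using fun k => exists_isPre hj (p k)
  refine isSchDense_of_chartFam hX hj (ChartFam.of_etale h1 h3) (fun k => ⟨fst k, hW k⟩) fun k => ?_
  have := h2 k
  -- `W k` is quasi-compact
  obtain ⟨P, fst', snd', sq, T, u, q, hu, hus, hqu, hqc⟩ := exists_qc_chart hq (p k)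
  have hqc' : QuasiCompact (W k).ι := by
    have hrange : Set.range q.left = (W k : Set (V k).left) := by
      rw [← IsPre.preimage (j := j) (φ := p k) ⟨fst k, hW k⟩]
      ext t
      constructor
      · rintro ⟨s, rfl⟩
        refine ⟨Points.ofPt (u ≫ fst') s, ?_⟩
        rw [Points.map_ofPt, Category.assoc, sq.w, ← Category.assoc, hqu, K609.Points.ofPt_yon_map_comp]
      · rintro ⟨x, hx⟩
        obtain ⟨y, -, hy⟩ := K609.Points.exists_of_isPullback sq x (Points.ofScheme (V k) t) (by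
          rw [hx, Points.ofPt_eq_map_ofScheme])
        obtain ⟨s, rfl⟩ := K609.Points.surjective_ofPt_of_repWith_surjective hus y
        rw [Points.map_ofPt, hqu, K609.Points.ofPt_yon_map] at hy
        exact ⟨s, K609.Points.ofScheme_injective _ hy⟩
    have hT : CompactSpace ↥T.left :=
      ⟨by simpa using QuasiCompact.isCompact_preimage (f := q.left) Set.univ isOpen_univ isCompact_univ⟩
    have hc : CompactSpace ↥((W k : Set (V k).left)) := by
      rw [← isCompact_iff_compactSpace, ← hrange]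
      exact isCompact_range q.left.continuous
    have : CompactSpace ↥((W k : Scheme.{u})) := hc
    infer_instance
  refine DensSch.isSchematicallyDense_of_ker (W k) ?_
  -- the kernel is zero
  have e1 := image_eq_K hX hq (repWith_closed_id X) h (p k) (h2 k) (repWith_flat_of_etale (h1 k))
  rw [ofClosed_id_eq_bot, K_eq_ker (hW k) (𝟙 _) (repWith_id _ _) (repWith_id _ _) (opnι (V k) (W k))
    (Category.id_comp _)] at e1
  exact e1.symm

end K598.Dens
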