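import Groth.Agent.AlgSp.K598.Charts
import Groth.Agent.AlgSp.K597.LocP
import Groth.Agent.AlgSp.K597.EtLoc
import Groth.Agent.S9339
import Mathlib.AlgebraicGeometry.Morphisms.QuasiFinite
import Mathlib.AlgebraicGeometry.Morphisms.Finite

/-!
# Discreteness of points and locally quasi-finite charts
-/

set_option autoImplicit false
universe u
open CategoryTheory CategoryTheory.Limits AlgebraicGeometry Opposite TopologicalSpace
open AlgSp K598.Site K598.RepKit K598.Charts

namespace K598.Disc

/-- A locally Noetherian scheme all of whose points are closed is discrete. -/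
theorem discreteTopology_of_closed (W : Scheme.{u}) [IsLocallyNoetherian W]
    (h : ∀ w : W, IsClosed ({w} : Set W)) : DiscreteTopology W := by
  apply discreteTopology_iff_isOpen_singleton.mpr
  intro x
  obtain ⟨A, hA, hxA, -⟩ := exists_isAffineOpen_mem_and_subset (x := x) (U := ⊤) trivial
  have hN : IsNoetherianRing Γ(W, A) := IsLocallyNoetherian.component_noetherian ⟨A, hA⟩
  have hcl : ∀ a : (A : Scheme.{u}), IsClosed ({a} : Set (A : Scheme.{u})) := fun a => by
    have e : ({a} : Set (A : Scheme.{u})) = A.ι ⁻¹' {A.ι a} := by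
      ext b
      constructor
      · rintro rfl
        rfl
      · intro hb
        exact A.ι.isOpenEmbedding.injective hb
    rw [e]
    exact (h (A.ι a)).preimage A.ι.continuous
  have hK : Ring.KrullDimLE 0 Γ(W, A) := .mk₀ fun I hI => by
    refine (PrimeSpectrum.isClosed_singleton_iff_isMaximal ⟨I, hI⟩).1 ?_
    let z : Spec Γ(W, A) := (⟨I, hI⟩ : PrimeSpectrum Γ(W, A))
    have h1 := (hcl (hA.isoSpec.inv z)).preimage hA.isoSpec.inv.continuous
    have e : hA.isoSpec.inv ⁻¹' {hA.isoSpec.inv z} = ({z} : Set (Spec Γ(W, A))) := by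
      ext b
      constructor
      · intro hb
        exact hA.isoSpec.inv.homeomorph.injective hb
      · rintro rfl
        rfl
    rw [e] at h1
    exact h1
  have : IsArtinianRing Γ(W, A) := isArtinianRing_iff_isNoetherianRing_krullDimLE_zero.2 ⟨hN, hK⟩
  have : DiscreteTopology (Spec Γ(W, A)) := inferInstanceAs (DiscreteTopology (PrimeSpectrum _))
  have : DiscreteTopology A := hA.isoSpec.hom.homeomorph.symm.discreteTopology
  have h2 := (isOpen_discrete ({⟨x, hxA⟩} : Set A)).trans A.2
  have h3 : (Subtype.val '' ({⟨x, hxA⟩} : Set A)) = {x} := Set.image_singleton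
  rw [← h3]
  exact h2

variable {S : Scheme.{u}}

/-- An etale chart, locally of finite type over a field, of a sheaf with discrete space of points is discrete. -/
theorem discreteTopology_of_chart {k : Type u} [Field k] {W : Over S} {P : Sp S} (u : (yon S).obj W ⟶ P)
    (hu : RepWith @Etale u) [DiscreteTopology (Points P)] (c : W.left ⟶ Spec (CommRingCat.of k))
    [LocallyOfFiniteType c] : DiscreteTopology W.left := by
  have hN : IsLocallyNoetherian W.left := LocallyOfFiniteType.isLocallyNoetherian c
  have hJ : JacobsonSpace W.left := LocallyOfFiniteType.jacobsonSpace c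
  refine discreteTopology_of_closed W.left fun w => ?_
  -- a closed point in the same class
  obtain ⟨w₀, hw₀, hcl⟩ := nonempty_inter_closedPoints (Z := Points.ofPt u ⁻¹' {Points.ofPt u w}) ⟨w, rfl⟩
    ((isOpen_discrete _).preimage (Points.continuous_ofPt u)).isLocallyClosed
  have hcl : IsClosed ({w₀} : Set W.left) := hcl
  obtain ⟨R, p, q, sq, hq⟩ := K597.exists_sq2 hu u
  have hp : Etale p.left := hu.2 _ _ _ sq.flip
  obtain ⟨r, hr1, hr2⟩ := (K609.Points.ofPt_eq_ofPt_iff sq w₀ w).1 hw₀
  have hR : JacobsonSpace R.left := LocallyOfFiniteType.jacobsonSpace (q.left ≫ c)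
  have hLQ : LocallyQuasiFinite p.left := K597.locallyQuasiFinite_of_etale p.left
  have hd := p.left.isDiscrete_preimage_singleton w₀
  have hc : IsClosed (p.left ⁻¹' {w₀}) := hcl.preimage p.left.continuous
  have hr : IsClosed ({r} : Set R.left) :=
    isClosed_of_subset_discrete_closed (Set.singleton_subset_iff.2 hr1) hd hc
  have h1 := Groth.Agent.S9339.result q.left ⟨r, (isClosed_singleton_iff_locallyOfFiniteType.1 hr), rfl⟩
  have h2 : LocallyOfFiniteType (W.left.fromSpecResidueField (q.left r)) := h1
  rw [hr2] at h2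
  exact isClosed_singleton_iff_locallyOfFiniteType.2 h2

end K598.Disc
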