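import Groth.Agent.AlgSp.K598.Red
import Groth.Agent.AlgSp.K610.Sub
import Groth.Agent.AlgSp.K610.OpenImm
import Groth.Agent.AlgSp.K610.EtaleMor
import Groth.Agent.AlgSp.K609.QC
import Groth.Agent.AlgSp.K596.QC2
import Groth.Agent.AlgSp.K603.UnivClosedAux
import Groth.Agent.AlgSp.K598.RepKit

/-!
# Elementary distinguished squares

* `isElemDistSq_of_factor`: the main criterion (used for the filtration of a qcqs space by schemes).
* `isElemDistSq_of_open`: two open subspaces which cover.
* `exists_iso_of_range_eq`, `exists_empty`, `isIso_of_isEmpty`.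
-/

set_option autoImplicit false
universe u
open CategoryTheory CategoryTheory.Limits AlgebraicGeometry Opposite Topology
open AlgSp K610.Base K610.Factor K610.OpenImm K613.Basic K598.RepKit

namespace K598.ElemSq

variable {S : Scheme.{u}} {F G P T U V V' W X Y Z : Sp S}

/-- a representable open immersion which is surjective on points is an isomorphism -/
theorem isIso_of_surjective {j : F ⟶ G} (hj : RepWith @IsOpenImmersion j) (hs : Function.Surjective (Points.map j)) :
    IsIso j := by
  have hm := mono_of_isOpenImmersion hj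
  obtain ⟨g, hg⟩ := (factors_open_iff hj (𝟙 G)).2 (by rw [hs.range_eq]; exact Set.subset_univ _)
  exact ⟨g, by rw [← cancel_mono j, Category.assoc, hg, Category.comp_id, Category.id_comp], hg⟩

/-- two open subspaces with the same points are isomorphic -/
theorem exists_iso_of_range_eq {j : F ⟶ X} {j' : G ⟶ X} (hj : RepWith @IsOpenImmersion j)
    (hj' : RepWith @IsOpenImmersion j') (h : Set.range (Points.map j) = Set.range (Points.map j')) :
    ∃ e : F ≅ G, e.hom ≫ j' = j := by
  have hm := mono_of_isOpenImmersion hj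
  have hm' := mono_of_isOpenImmersion hj'
  obtain ⟨a, ha⟩ := (factors_open_iff hj' j).2 h.subset
  obtain ⟨b, hb⟩ := (factors_open_iff hj j').2 h.symm.subset
  exact ⟨⟨a, b, by rw [← cancel_mono j, Category.assoc, hb, ha, Category.id_comp],
    by rw [← cancel_mono j', Category.assoc, ha, hb, Category.id_comp]⟩, ha⟩

/-- A criterion for elementary distinguished squares. -/
theorem isElemDistSq_of_factor {jY : Y ⟶ X} (hjY : RepWith @IsOpenImmersion jY) {i : T ⟶ Y}
    (hi : RepWith @IsClosedImmersion i) {g : V ⟶ Y}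
    (hg : ∀ (P : Sp S) (fst : P ⟶ T) (snd : P ⟶ V), IsPullback fst snd i g → IsIso fst)
    {v : V' ⟶ V} (hv : RepWith @IsOpenImmersion v) {jW : W ⟶ X} (hjW : Mono jW)
    (hW : IsAlgSpace W) {k : U ⟶ W} (hk : RepWith @IsOpenImmersion k) {f : V' ⟶ W} (hf : IsEtaleMor f)
    (w : f ≫ jW = v ≫ g ≫ jY)
    (h1 : ∀ x : Points W, x ∉ Set.range (Points.map k) → x ∈ Set.range (Points.map f))
    (h2 : ∀ x : Points W, x ∉ Set.range (Points.map k) → Points.map jW x ∈ Set.range (Points.map (i ≫ jY))) :
    IsElemDistSq k f := by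
  have hmY := mono_of_isOpenImmersion hjY
  have hopen : IsOpen (Set.range (Points.map k)) := (isOpenEmbedding_points hW hk).isOpen_range
  obtain ⟨Z, z, hZ, hz⟩ := K598.Red.exists_isRedInduced hW (Set.range (Points.map k))ᶜ hopen.isClosed_compl
  refine ⟨hk, hf, Z, pullback z f, z, pullback.fst z f, pullback.snd z f, hz, IsPullback.of_hasPullback z f, ?_⟩
  have hzr : ∀ x : Points Z, Points.map z x ∉ Set.range (Points.map k) := by
    intro x hx
    have : Points.map z x ∈ (Set.range (Points.map k))ᶜ := by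
      rw [← hz.2.1]
      exact ⟨x, rfl⟩
    exact this hx
  have key : ∀ x : Points Z, ∃ t : Points T, Points.map (z ≫ jW) x = Points.map jY (Points.map i t) := by
    intro x
    obtain ⟨t, ht⟩ := h2 _ (hzr x)
    exact ⟨t, by rw [Points.map_comp, ← ht, Points.map_comp]⟩
  obtain ⟨z', hz'⟩ := (factors_open_iff hjY (z ≫ jW)).2 (by
    rintro _ ⟨x, rfl⟩
    obtain ⟨t, ht⟩ := key x
    exact ⟨_, ht.symm⟩)
  obtain ⟨z'', hz''⟩ := (factors_closed_iff hi hz.2.2 z').2 (by
    rintro _ ⟨x, rfl⟩
    obtain ⟨t, ht⟩ := key x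
    refine ⟨t, K603.UnivClosedAux.injective_of_mono jY ?_⟩
    rw [← ht, ← hz', Points.map_comp])
  have sqg := IsPullback.of_hasPullback i g
  have hiso : IsIso (pullback.fst i g) := hg _ _ _ sqg
  -- the section `s : Z ⟶ V`
  obtain ⟨s, hs1, hs2⟩ : ∃ s : Z ⟶ V, s ≫ g = z' ∧ ∀ (R : Sp S) (a : R ⟶ Z) (b : R ⟶ V), a ≫ z' = b ≫ g → a ≫ s = b := by
    refine ⟨z'' ≫ inv (pullback.fst i g) ≫ pullback.snd i g, ?_, ?_⟩
    · rw [Category.assoc, Category.assoc, ← sqg.w, IsIso.inv_hom_id_assoc, hz'']
    · intro R a b hab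
      have h3 : (a ≫ z'') ≫ i = b ≫ g := by rw [Category.assoc, hz'', hab]
      have h4 : sqg.lift _ _ h3 = a ≫ z'' ≫ inv (pullback.fst i g) := by
        rw [← cancel_mono (pullback.fst i g), sqg.lift_fst, Category.assoc, Category.assoc, IsIso.inv_hom_id,
          Category.comp_id]
      rw [← sqg.lift_snd _ _ h3, h4, Category.assoc, Category.assoc]
  have sq : IsPullback (pullback.fst z f) (pullback.snd z f) s v := by
    have h0 : pullback.fst z f ≫ s = pullback.snd z f ≫ v := by
      apply hs2
      rw [← cancel_mono jY, Category.assoc, hz', Category.assoc, Category.assoc, ← w, ← Category.assoc,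
        ← Category.assoc, pullback.condition]
    refine isPullback_of_yon h0 fun R a b hab => ?_
    have h5 : a ≫ z = b ≫ f := by
      rw [← cancel_mono jW, Category.assoc, Category.assoc, ← hz', w, ← hs1, Category.assoc, reassoc_of% hab]
    refine ⟨pullback.lift a b h5, ⟨pullback.lift_fst _ _ _, pullback.lift_snd _ _ _⟩, fun c hc => ?_⟩
    apply pullback.hom_ext
    · rw [hc.1, pullback.lift_fst]
    · rw [hc.2, pullback.lift_snd]
  have ho : RepWith @IsOpenImmersion (pullback.fst z f) :=
    MorphismProperty.of_isPullback (P := RepWith @IsOpenImmersion) sq.flip hv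
  apply isIso_of_surjective ho
  intro x
  obtain ⟨y, hy⟩ := h1 _ (hzr x)
  obtain ⟨p, hp, -⟩ := K610.Base.exists_of_isPullback (IsPullback.of_hasPullback z f) x y hy.symm
  exact ⟨p, hp⟩

theorem isEtaleMor_of_open {j : F ⟶ G} (hj : RepWith @IsOpenImmersion j) : IsEtaleMor j :=
  fun _ _ hφ => (repWith_isMultiplicative (S := S) @Etale).comp_mem _ _ hφ (repWith_etale_of_open hj)

/-- Two open subspaces which cover give an elementary distinguished square. -/
theorem isElemDistSq_of_open (hW : IsAlgSpace W) {k : U ⟶ W} (hk : RepWith @IsOpenImmersion k) {f : V' ⟶ W}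
    (hf : RepWith @IsOpenImmersion f)
    (h1 : ∀ x : Points W, x ∉ Set.range (Points.map k) → x ∈ Set.range (Points.map f)) : IsElemDistSq k f := by
  have h0 : RepWith @IsOpenImmersion (𝟙 W) := repWith_of_isIso _
  have h0' : RepWith @IsClosedImmersion (𝟙 W) := repWith_of_isIso _
  refine isElemDistSq_of_factor (jY := 𝟙 W) h0 (i := 𝟙 W) h0' (g := 𝟙 W) ?_ hf (jW := 𝟙 W) inferInstance hW hk
    (isEtaleMor_of_open hf) (by simp) h1 ?_
  · intro P fst snd sq
    exact MorphismProperty.of_isPullback (P := MorphismProperty.isomorphisms _) sq.flip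
      (inferInstanceAs (IsIso (𝟙 W)))
  · intro x _
    refine ⟨x, by simp⟩

end K598.ElemSq
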