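import Groth.Agent.AlgSp.K598.OpenInd
import Groth.Agent.S9921
import Groth.Prelude.Def_AlgSpEt

/-!
# The induction principle for spaces etale over a space

* `FamInd`: the hypotheses of the induction principle for a family, `FamInd.affineOpen` (quasi-compact opens of
  affines), `FamInd.main`.
-/

set_option autoImplicit false
universe u
open CategoryTheory CategoryTheory.Limits AlgebraicGeometry Opposite Topology
open AlgSp K610.Base K610.Factor K610.OpenImm K613.Basic K598.RepKit K598.ElemSq K598.OpenInd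

namespace K598.EtInd

variable {S : Scheme.{u}} {X : Space S}

/-- an affine space -/
def IsAff (V : Space S) : Prop := ∃ T : Over S, IsAffine T.left ∧ Nonempty ((yon S).obj T ≅ V.obj)

/-- The hypotheses of the induction principle for a family of objects. -/
structure FamInd (B P : EtSpOver X → Prop) : Prop where
  h1 : ∀ W, B W → AlgSp.IsQuasiCompactSp W.obj.left.obj ∧ AlgSp.IsQuasiSeparatedSp W.obj.left.obj
  h2 : ∀ (W U : AlgSp.EtSpOver X) (j : U ⟶ W), B W → AlgSp.RepWith @IsOpenImmersion j.hom.left.hom →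
      AlgSp.IsQuasiCompactSp U.obj.left.obj → B U
  h3 : ∀ (V : AlgSp.EtSpOver X) (T : Over S), IsAffine T.left →
      Nonempty ((AlgSp.yon S).obj T ≅ V.obj.left.obj) → B V ∧ P V
  h4 : ∀ (W U V UV : AlgSp.EtSpOver X) (j : U ⟶ W) (f : V ⟶ W) (p : UV ⟶ U) (q : UV ⟶ V),
      B W → AlgSp.IsQuasiCompactSp U.obj.left.obj →
      (∃ T : Over S, IsAffine T.left ∧ Nonempty ((AlgSp.yon S).obj T ≅ V.obj.left.obj)) →
      AlgSp.IsElemDistSq j.hom.left.hom f.hom.left.hom →
      IsPullback p.hom.left.hom q.hom.left.hom j.hom.left.hom f.hom.left.hom →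
      P U → P V → P UV → P W

theorem isEtaleMor_comp {F G H : Sp S} {f : F ⟶ G} {g : G ⟶ H} (hf : IsEtaleMor f) (hg : IsEtaleMor g) :
    IsEtaleMor (f ≫ g) := fun _ φ hφ => by
  have := hg _ (hf φ hφ)
  rwa [Category.assoc] at this

/-- the object of the site attached to an etale morphism to an object -/
noncomputable def mkE (W : EtSpOver X) {U : Space S} (j : U ⟶ W.obj.left) (hj : IsEtaleMor j.hom) : EtSpOver X :=
  ⟨Over.mk (j ≫ W.obj.hom), isEtaleMor_comp hj W.property⟩

/-- the morphism to the object -/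
noncomputable def toE (W : EtSpOver X) {U : Space S} (j : U ⟶ W.obj.left) (hj : IsEtaleMor j.hom) : mkE W j hj ⟶ W :=
  ObjectProperty.homMk (Over.homMk j rfl)

/-- morphisms between such objects -/
noncomputable def homE (W : EtSpOver X) {U V : Space S} (j : U ⟶ W.obj.left) (hj : IsEtaleMor j.hom)
    (i : V ⟶ W.obj.left) (hi : IsEtaleMor i.hom) (k : U ⟶ V) (hk : k ≫ i = j) : mkE W j hj ⟶ mkE W i hi :=
  ObjectProperty.homMk (Over.homMk k (by
    change k ≫ i ≫ W.obj.hom = j ≫ W.obj.hom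
    rw [← hk, Category.assoc]))

theorem mkE_id (W : EtSpOver X) (h : IsEtaleMor (𝟙 W.obj.left : W.obj.left ⟶ W.obj.left).hom) : mkE W (𝟙 _) h = W := by
  obtain ⟨W, hW⟩ := W
  unfold mkE
  congr 1

theorem range_comp {X Y Z : Space S} (f : X ⟶ Y) (g : Y ⟶ Z) :
    Set.range (Points.map (f ≫ g).hom) = Points.map g.hom '' Set.range (Points.map f.hom) := by
  rw [← Set.range_comp]
  congr 1
  ext x
  exact points_map_hom_comp f g x

theorem isOpen_image_ofPt {F : Sp S} {T : Over S} (e : (yon S).obj T ≅ F) (O : T.left.Opens) :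
    IsOpen (Points.ofPt e.hom '' (O : Set T.left)) :=
  isOpenMap_ofPt_etale (repWith_of_isIso e.hom) _ O.2

theorem bijective_ofPt {F : Sp S} {T : Over S} (e : (yon S).obj T ≅ F) : Function.Bijective (Points.ofPt e.hom) := by
  have h1 : ∀ t : T.left, Points.map e.inv (Points.ofPt e.hom t) = Points.ofPt (𝟙 _) t := by
    intro t
    rw [← ofPt_comp, e.hom_inv_id]
  constructor
  · intro t t' h
    apply (Points.schemeHomeo T).injective
    change Points.ofPt (𝟙 _) t = Points.ofPt (𝟙 _) t'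
    rw [← h1, h, h1]
  · intro x
    obtain ⟨t, ht⟩ := (Points.schemeHomeo T).surjective (Points.map e.inv x)
    refine ⟨t, ?_⟩
    have h2 : Points.ofPt (𝟙 _) t = Points.map e.inv x := ht
    calc Points.ofPt e.hom t = Points.ofPt (𝟙 _ ≫ e.hom) t := by rw [Category.id_comp]
      _ = x := by rw [ofPt_comp, h2, ← Points.map_comp, e.inv_hom_id, Points.map_id]

/-- an open subspace of an affine space given by an affine open is affine -/
theorem isAff_of_range {V U : Space S} {T : Over S} (e : (yon S).obj T ≅ V.obj) (O : T.left.Opens)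
    (hO : IsAffineOpen O) {j : U ⟶ V} (hj : RepWith @IsOpenImmersion j.hom)
    (hr : Set.range (Points.map j.hom) = Points.ofPt e.hom '' (O : Set T.left)) :
    ∃ T : Over S, IsAffine T.left ∧ Nonempty ((yon S).obj T ≅ U.obj) := by
  let T' : Over S := Over.mk (O.ι ≫ T.hom)
  let v : T' ⟶ T := Over.homMk O.ι rfl
  have hv : RepWith @IsOpenImmersion ((yon S).map v) :=
    (repWith_yon_map_iff _ _).2 (inferInstanceAs (IsOpenImmersion O.ι))
  have hv' : RepWith @IsOpenImmersion ((yon S).map v ≫ e.hom) :=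
    MorphismProperty.comp_mem _ _ _ hv (repWith_of_isIso e.hom)
  obtain ⟨a, -⟩ := exists_iso_of_range_eq hv' hj (by
    rw [hr, ← range_ofPt]
    ext x
    constructor
    · rintro ⟨t, rfl⟩
      refine ⟨v.left t, t.2, ?_⟩
      rw [ofPt_map_comp]
    · rintro ⟨t, ht, rfl⟩
      refine ⟨⟨t, ht⟩, ?_⟩
      rw [ofPt_map_comp]
      rfl)
  exact ⟨T', hO, ⟨a⟩⟩

/-- pullback of open subspaces, as an algebraic space -/
theorem exists_pullback_open {U V W : Space S} {j : U ⟶ W} (hj : RepWith @IsOpenImmersion j.hom) (f : V ⟶ W) :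
    ∃ (Q : Space S) (p : Q ⟶ U) (q : Q ⟶ V), IsPullback p.hom q.hom j.hom f.hom ∧ RepWith @IsOpenImmersion q.hom ∧
      p ≫ j = q ≫ f := by
  have sq := IsPullback.of_hasPullback j.hom f.hom
  have hq : RepWith @IsOpenImmersion (pullback.snd j.hom f.hom) :=
    MorphismProperty.of_isPullback (P := RepWith @IsOpenImmersion) sq hj
  have := mono_of_isOpenImmersion hq
  refine ⟨⟨pullback j.hom f.hom, K610.Sub.isAlgSpace_of_mono hq.1 V.2⟩, ⟨pullback.fst _ _⟩, ⟨pullback.snd _ _⟩, sq, hq, ?_⟩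
  exact ObjectProperty.hom_ext _ pullback.condition

theorem isQuasiSeparatedSp_of_open {F G : Sp S} {j : F ⟶ G} (hj : RepWith @IsOpenImmersion j)
    (hG : IsQuasiSeparatedSp G) : IsQuasiSeparatedSp F := by
  have := mono_of_isOpenImmersion hj
  exact MorphismProperty.of_isPullback (P := RepWith @QuasiCompact) (K610.Sub.diag_pullback_of_mono j).flip hG

theorem isQuasiSeparatedSp_yon {T : Over S} (hT : IsAffine T.left) : IsQuasiSeparatedSp ((yon S).obj T) := by
  refine (repWith_diag_yon_iff _ _).2 ?_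
  have : QuasiSeparated T.hom := inferInstance
  exact QuasiSeparated.quasiCompact_diagonal

theorem qcqs_of_isAff {V : Space S} (hV : IsAff V) : IsQuasiCompactSp V.obj ∧ IsQuasiSeparatedSp V.obj := by
  obtain ⟨T, hT, ⟨e⟩⟩ := hV
  refine ⟨K596.QC2.isQuasiCompactSp_of_iso V.2 e (K596.QC.isQuasiCompactSp_yon T), ?_⟩
  exact isQuasiSeparatedSp_of_open (j := e.inv) (repWith_of_isIso _) (isQuasiSeparatedSp_yon hT)

namespace FamInd

variable {B P : EtSpOver X → Prop}

theorem of_isEmpty (h : FamInd B P) (U : EtSpOver X) (hU : IsEmpty (Points U.obj.left.obj)) : P U := by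
  obtain ⟨T, hT, e⟩ := exists_affine_iso_of_isEmpty U.obj.left.2 hU
  exact (h.h3 U T hT e).2

/-- union of basic opens -/
def lSup {T : Scheme.{u}} (l : List Γ(T, ⊤)) : T.Opens := ⨆ f ∈ l, T.basicOpen f

theorem mem_lSup {T : Scheme.{u}} (l : List Γ(T, ⊤)) (t : T) : t ∈ lSup l ↔ ∃ f ∈ l, t ∈ T.basicOpen f := by
  simp [lSup]

theorem isCompact_lSup {T : Scheme.{u}} [IsAffine T] (l : List Γ(T, ⊤)) : IsCompact (lSup l : Set T) := by
  have : (lSup l : Set T) = ⋃ f ∈ {f | f ∈ l}, (T.basicOpen f : Set T) := by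
    ext t
    simp [mem_lSup]
  rw [this]
  exact (List.finite_toSet l).isCompact_biUnion fun f _ => ((isAffineOpen_top T).basicOpen f).isCompact

/-- quasi-compact opens of affine objects -/
theorem affineOpen_aux (h : FamInd B P) : ∀ (n : ℕ) (V : EtSpOver X) (T : Over S) (_ : IsAffine T.left)
    (e : (yon S).obj T ≅ V.obj.left.obj) (l : List Γ(T.left, ⊤)) (_ : l.length = n) (U : EtSpOver X) (j : U ⟶ V),
    RepWith @IsOpenImmersion j.hom.left.hom →
    Set.range (Points.map j.hom.left.hom) = Points.ofPt e.hom '' (lSup l : Set T.left) → P U := by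
  intro n
  induction n with
  | zero =>
    intro V T hT e l hl U j hj hr
    obtain rfl := List.length_eq_zero_iff.1 hl
    apply h.of_isEmpty
    rw [← Set.range_eq_empty_iff (f := Points.map j.hom.left.hom), hr]
    simp [lSup]
  | succ n ih =>
    intro V T hT e l hl U j hj hr
    obtain ⟨f, l, rfl⟩ := List.exists_cons_of_length_eq_add_one hl
    have hl' : l.length = n := by simpa using hl
    have hcons : (lSup (f :: l) : Set T.left) = (T.left.basicOpen f : Set T.left) ∪ (lSup l : Set T.left) := by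
      ext t
      simp [mem_lSup]
    have hmap : (lSup (l.map (· * f)) : Set T.left) = (lSup l : Set T.left) ∩ (T.left.basicOpen f : Set T.left) := by
      ext t
      simp [mem_lSup]
      tauto
    obtain ⟨U₁, j₁, hj₁, hr₁⟩ := K610.Sub.exists_open_subspace U.obj.left
      (Points.map j.hom.left.hom ⁻¹' (Points.ofPt e.hom '' (lSup l : Set T.left)))
      ((isOpen_image_ofPt e _).preimage (Points.continuous_map _))
    obtain ⟨U₂, j₂, hj₂, hr₂⟩ := K610.Sub.exists_open_subspace U.obj.left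
      (Points.map j.hom.left.hom ⁻¹' (Points.ofPt e.hom '' (T.left.basicOpen f : Set T.left)))
      ((isOpen_image_ofPt e _).preimage (Points.continuous_map _))
    obtain ⟨Q, p, q, sq, hq, hpq⟩ := exists_pullback_open hj₁ j₂
    have he₁ := isEtaleMor_of_open hj₁
    have he₂ := isEtaleMor_of_open hj₂
    have hQ : RepWith @IsOpenImmersion (q ≫ j₂).hom := MorphismProperty.comp_mem _ _ _ hq hj₂
    have heQ := isEtaleMor_of_open hQ
    have c₁ : Set.range (Points.map (toE U j₁ he₁ ≫ j).hom.left.hom) = Points.ofPt e.hom '' (lSup l : Set T.left) := by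
      change Set.range (Points.map (j₁ ≫ j.hom.left).hom) = _
      rw [range_comp, hr₁, Set.image_preimage_eq_iff, hr, hcons]
      exact Set.image_mono Set.subset_union_right
    have c₂ : Set.range (Points.map (toE U j₂ he₂ ≫ j).hom.left.hom) =
        Points.ofPt e.hom '' (T.left.basicOpen f : Set T.left) := by
      change Set.range (Points.map (j₂ ≫ j.hom.left).hom) = _
      rw [range_comp, hr₂, Set.image_preimage_eq_iff, hr, hcons]
      exact Set.image_mono Set.subset_union_left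
    have hrQ : Set.range (Points.map (q ≫ j₂).hom) = Points.map j.hom.left.hom ⁻¹'
        (Points.ofPt e.hom '' (lSup (l.map (· * f)) : Set T.left)) := by
      rw [hmap, Set.image_inter (bijective_ofPt e).1, Set.preimage_inter, ← hr₁, ← hr₂]
      ext x
      constructor
      · rintro ⟨y, rfl⟩
        refine ⟨⟨Points.map p.hom y, ?_⟩, ⟨Points.map q.hom y, ?_⟩⟩
        · rw [← points_map_hom_comp, hpq]
        · rw [← points_map_hom_comp]
      · rintro ⟨⟨y, hy⟩, ⟨z, hz⟩⟩
        obtain ⟨w, -, hw⟩ := K610.Base.exists_of_isPullback sq y z (by rw [hy, hz])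
        exact ⟨w, by rw [points_map_hom_comp, hw, hz]⟩
    have cQ : Set.range (Points.map (toE U (q ≫ j₂) heQ ≫ j).hom.left.hom) =
        Points.ofPt e.hom '' (lSup (l.map (· * f)) : Set T.left) := by
      change Set.range (Points.map ((q ≫ j₂) ≫ j.hom.left).hom) = _
      rw [range_comp, hrQ, Set.image_preimage_eq_iff, hr, hcons, hmap]
      exact Set.image_mono (Set.inter_subset_left.trans Set.subset_union_right)
    have o₁ : RepWith @IsOpenImmersion (toE U j₁ he₁ ≫ j).hom.left.hom := MorphismProperty.comp_mem _ _ _ hj₁ hj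
    have o₂ : RepWith @IsOpenImmersion (toE U j₂ he₂ ≫ j).hom.left.hom := MorphismProperty.comp_mem _ _ _ hj₂ hj
    have oQ : RepWith @IsOpenImmersion (toE U (q ≫ j₂) heQ ≫ j).hom.left.hom := MorphismProperty.comp_mem _ _ _ hQ hj
    have P₁ : P (mkE U j₁ he₁) := ih V T hT e l hl' _ _ o₁ c₁
    have PQ : P (mkE U (q ≫ j₂) heQ) := ih V T hT e (l.map (· * f)) (by simpa using hl') _ _ oQ cQ
    obtain ⟨T₂, hT₂, e₂⟩ := isAff_of_range e _ ((isAffineOpen_top T.left).basicOpen f) o₂ c₂
    have P₂ : P (mkE U j₂ he₂) := (h.h3 _ T₂ hT₂ e₂).2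
    have hcont : Continuous (Points.ofPt e.hom) := Points.continuous_ofPt _
    have BU : B U := h.h2 V U j (h.h3 V T hT ⟨e⟩).1 hj (by
      rw [isQuasiCompactSp_iff_range hj, hr]
      exact (isCompact_lSup _).image hcont)
    have qc₁ : IsQuasiCompactSp (mkE U j₁ he₁).obj.left.obj := by
      rw [isQuasiCompactSp_iff_range (j := (toE U j₁ he₁ ≫ j).hom.left) o₁, c₁]
      exact (isCompact_lSup _).image hcont
    refine h.h4 U (mkE U j₁ he₁) (mkE U j₂ he₂) (mkE U (q ≫ j₂) heQ) (toE U j₁ he₁) (toE U j₂ he₂)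
      (homE U _ heQ _ he₁ p hpq) (homE U _ heQ _ he₂ q rfl) BU qc₁ ⟨T₂, hT₂, e₂⟩ ?_ sq P₁ P₂ PQ
    refine isElemDistSq_of_open U.obj.left.2 hj₁ hj₂ fun x hx => ?_
    have hx1 : Points.map j.hom.left.hom x ∈ Set.range (Points.map j.hom.left.hom) := ⟨x, rfl⟩
    rw [hr, hcons, Set.image_union] at hx1
    change x ∉ Set.range (Points.map j₁.hom) at hx
    change x ∈ Set.range (Points.map j₂.hom)
    rw [hr₁] at hx
    rw [hr₂]
    exact hx1.resolve_right hx

theorem affineOpen (h : FamInd B P) (V : EtSpOver X) (hV : IsAff V.obj.left) (U : EtSpOver X) (j : U ⟶ V)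
    (hj : RepWith @IsOpenImmersion j.hom.left.hom) (hU : IsQuasiCompactSp U.obj.left.obj) : P U := by
  obtain ⟨T, hT, ⟨e⟩⟩ := hV
  have hc := (isQuasiCompactSp_iff_range hj).1 hU
  have ho := (isOpenEmbedding_points V.obj.left.2 hj).isOpen_range
  have hb := bijective_ofPt e
  have ho' : IsOpen (Points.ofPt e.hom ⁻¹' Set.range (Points.map j.hom.left.hom)) := ho.preimage (Points.continuous_ofPt _)
  have himg : Points.ofPt e.hom '' (Points.ofPt e.hom ⁻¹' Set.range (Points.map j.hom.left.hom)) =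
      Set.range (Points.map j.hom.left.hom) := Set.image_preimage_eq _ hb.2
  have hc' : IsCompact (Points.ofPt e.hom ⁻¹' Set.range (Points.map j.hom.left.hom)) := by
    have hcl : IsOpenEmbedding (Points.ofPt e.hom) :=
      .of_continuous_injective_isOpenMap (Points.continuous_ofPt _) hb.1
        (isOpenMap_ofPt_etale (repWith_of_isIso e.hom))
    rw [hcl.isInducing.isCompact_iff, himg]
    exact hc
  obtain ⟨s, hs, hs'⟩ := isCompact_and_isOpen_iff_finite_and_eq_biUnion_basicOpen.1 ⟨hc', ho'⟩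
  refine h.affineOpen_aux _ V T hT e hs.toFinset.toList rfl U j hj ?_
  rw [← himg, hs']
  congr 1
  ext t
  simp [mem_lSup]

/-- The induction principle, from the enlargement principle for the space. -/
theorem main [QuasiSeparatedSpace ↥S] (h : FamInd B P) (W : EtSpOver X) (hW : B W)
    (hE : ∀ (P' : ∀ U : Space S, (U ⟶ W.obj.left) → Prop) (E : Space S) (jE : E ⟶ W.obj.left), Enlarge P' E jE →
      P' W.obj.left (𝟙 _)) : P W := by
  obtain ⟨E, e, he, her⟩ := K610.Sub.exists_open_subspace W.obj.left ∅ isOpen_empty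
  have hE0 : IsEmpty (Points E.obj) := Set.range_eq_empty_iff.1 her
  have h0 := hE (fun U j => ∀ hj : IsEtaleMor j.hom, P (mkE W j hj)) E e
    { hjW := he
      hWc := by
        rw [isQuasiCompactSp_iff_range he, her]
        exact isCompact_empty
      h1 := fun hj => h.of_isEmpty _ hE0
      h2 := by
        intro W₁ W₂ V j₁ j₂ k m f hj₁ hj₂ hk _ hc₁ hc₂ hV hsq hP hj
        have he₁ := isEtaleMor_of_open hj₁
        have heV : IsEtaleMor (f ≫ j₂).hom := isEtaleMor_comp hsq.2.1 hj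
        obtain ⟨Q, p, q, sq, hq, hpq⟩ := exists_pullback_open hsq.1 f
        have heQ : IsEtaleMor (q ≫ f ≫ j₂).hom := isEtaleMor_comp (isEtaleMor_of_open hq) heV
        have BW₂ : B (mkE W j₂ hj) := h.h2 W _ (toE W j₂ hj) hW hj₂ hc₂
        obtain ⟨T, hT, ⟨eT⟩⟩ := hV
        have hVc : IsQuasiCompactSp V.obj :=
          K596.QC2.isQuasiCompactSp_of_iso V.2 eT (K596.QC.isQuasiCompactSp_yon T)
        have hQc : IsQuasiCompactSp Q.obj :=
          K596.QC2.isQuasiCompactMor_of_qc_of_qs W₁.2 W₂.2 k.hom hc₁ (h.h1 _ BW₂).2 V.2 hVc f.hom _ _ sq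
        have PQ : P (mkE W (q ≫ f ≫ j₂) heQ) :=
          h.affineOpen (mkE W (f ≫ j₂) heV) ⟨T, hT, ⟨eT⟩⟩ _ (homE W _ heQ _ heV q rfl) hq hQc
        exact h.h4 (mkE W j₂ hj) (mkE W j₁ he₁) (mkE W (f ≫ j₂) heV) (mkE W (q ≫ f ≫ j₂) heQ)
          (homE W _ he₁ _ hj k hk) (homE W _ heV _ hj f rfl)
          (homE W _ heQ _ he₁ p (by rw [← hk, ← Category.assoc, hpq, Category.assoc]))
          (homE W _ heQ _ heV q rfl) BW₂ hc₁ ⟨T, hT, ⟨eT⟩⟩ hsq sq (hP he₁) (h.h3 _ T hT ⟨eT⟩).2 PQ }
  have h1 : IsEtaleMor (𝟙 W.obj.left : W.obj.left ⟶ W.obj.left).hom := by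
    have : RepWith @IsOpenImmersion (𝟙 W.obj.left : W.obj.left ⟶ W.obj.left).hom := by
      change RepWith @IsOpenImmersion (𝟙 W.obj.left.obj)
      exact repWith_of_isIso _
    exact isEtaleMor_of_open this
  have h2 := h0 h1
  rwa [mkE_id] at h2

end FamInd

/-- The hypotheses of the induction principle for all quasi-compact and quasi-separated objects. -/
theorem famInd_qcqs (P : EtSpOver X → Prop)
    (h1 : ∀ (W : AlgSp.EtSpOver X) (T : Over S), IsAffine T.left →
      Nonempty ((AlgSp.yon S).obj T ≅ W.obj.left.obj) → P W)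
    (h2 : ∀ (W U V UV : AlgSp.EtSpOver X) (j : U ⟶ W) (f : V ⟶ W) (p : UV ⟶ U) (q : UV ⟶ V),
      AlgSp.IsQuasiCompactSp W.obj.left.obj → AlgSp.IsQuasiSeparatedSp W.obj.left.obj →
      AlgSp.IsQuasiCompactSp U.obj.left.obj →
      (∃ T : Over S, IsAffine T.left ∧ Nonempty ((AlgSp.yon S).obj T ≅ V.obj.left.obj)) →
      AlgSp.IsElemDistSq j.hom.left.hom f.hom.left.hom →
      IsPullback p.hom.left.hom q.hom.left.hom j.hom.left.hom f.hom.left.hom →
      P U → P V → P UV → P W) :
    FamInd (fun W => IsQuasiCompactSp W.obj.left.obj ∧ IsQuasiSeparatedSp W.obj.left.obj) P where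
  h1 _ h := h
  h2 _ _ _ hW hj hU := ⟨hU, isQuasiSeparatedSp_of_open hj hW.2⟩
  h3 V T hT e := ⟨qcqs_of_isAff ⟨T, hT, e⟩, h1 V T hT e⟩
  h4 W U V UV j f p q hW hU hV hsq sq pU pV pUV := h2 W U V UV j f p q hW.1 hW.2 hU hV hsq sq pU pV pUV

end K598.EtInd
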