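import Groth.Agent.AlgSp.K598.DensSch
import Groth.Agent.Ega1.ReducedSub
import Groth.Agent.Picfga.IdealDescent
import Mathlib.AlgebraicGeometry.Morphisms.Immersion

/-!
# Immersions of schemes with zero kernel

An immersion `k : Z ⟶ R` with kernel zero which is quasi-compact or has reduced source is an open immersion with
dense and schematically dense image.
-/

set_option autoImplicit false
universe u
open CategoryTheory CategoryTheory.Limits AlgebraicGeometry TopologicalSpace

namespace K598.ImmSch

variable {X Z R V : Scheme.{u}}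

/-- A dense open of a reduced scheme is schematically dense. -/
theorem isSchematicallyDense_of_isReduced [IsReduced X] {U : X.Opens} (hU : Dense (U : Set X)) :
    CInt.IsSchematicallyDense U := by
  rw [DensSch.isSchematicallyDense_iff]
  intro W s hs
  by_contra hne
  have h1 : X.basicOpen s ≠ ⊥ := fun h => hne ((basicOpen_eq_bot_iff s).1 h)
  have h2 : (X.basicOpen s : Set X).Nonempty := by
    rw [Set.nonempty_iff_ne_empty]
    intro h
    exact h1 (by ext1; simpa using h)
  obtain ⟨x, hx1, hx2⟩ := hU.inter_open_nonempty _ (X.basicOpen s).isOpen h2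
  have hxW : x ∈ W := X.basicOpen_le s hx1
  have h3 : IsUnit (X.presheaf.germ W x hxW s) := (X.mem_basicOpen s x hxW).1 hx1
  rw [hs x hxW hx2] at h3
  exact not_isUnit_zero h3

theorem ker_eq_vanishingIdeal_of_isReduced (f : X ⟶ V) [IsReduced X] :
    f.ker = Scheme.IdealSheafData.vanishingIdeal ⟨closure (Set.range f), isClosed_closure⟩ := by
  have h1 := Scheme.IdealSheafData.map_vanishingIdeal f ⊤
  rw [Scheme.IdealSheafData.vanishingIdeal_top, Scheme.nilradical_eq_bot,
    Scheme.IdealSheafData.map_bot] at h1
  rw [h1]
  congr 1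
  ext x
  simp [TopologicalSpace.Closeds.closure]

theorem dense_of_ker (f : X ⟶ V) (h : f.ker = ⊥) (hq : QuasiCompact f ∨ IsReduced X) : DenseRange f := by
  rcases hq with hq | hq
  · have : IsSchemeTheoreticallyDominant f := ⟨h⟩
    exact (inferInstance : IsDominant f).denseRange
  · rw [ker_eq_vanishingIdeal_of_isReduced] at h
    rw [DenseRange, dense_iff_closure_eq]
    have h1 := congrArg (fun I : V.IdealSheafData => (I.support : Set V)) h
    simpa using h1

/-- Scheme-level form of the structure of immersions with kernel zero. -/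
theorem of_ker (k : Z ⟶ R) [IsImmersion k] (h : k.ker = ⊥) (hq : QuasiCompact k ∨ IsReduced Z) :
    IsOpenImmersion k ∧ DenseRange k := by
  have h1 : IsIso k.imageι := (Scheme.isIso_subschemeι_iff_eq_bot _).2 h
  have hd := dense_of_ker k h hq
  refine ⟨?_, hd⟩
  rcases hq with hq | hq
  · rw [← k.toImage_imageι]
    infer_instance
  · have hR : IsReduced R := by
      have := Groth.Agent.Ega1.ReducedSub.isReduced_image k
      exact isReduced_of_isOpenImmersion (inv k.imageι)
    have hU : IsReduced (k.coborderRange : Scheme.{u}) := inferInstance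
    have hs : Surjective k.liftCoborder := by
      rw [surjective_iff, ← Set.range_eq_univ]
      have h2 : IsClosed (Set.range k.liftCoborder) := k.liftCoborder.isClosedEmbedding.isClosed_range
      rw [← h2.closure_eq, ← dense_iff_closure_eq]
      have h3 : Dense (k.coborderRange.ι ⁻¹' (Set.range k)) :=
        hd.preimage k.coborderRange.ι.isOpenEmbedding.isOpenMap
      refine h3.mono ?_
      rintro x ⟨z, hz⟩
      refine ⟨z, k.coborderRange.ι.isOpenEmbedding.injective ?_⟩
      rw [← Scheme.Hom.comp_apply, k.liftCoborder_ι, hz]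
    have hi : IsIso k.liftCoborder := isIso_of_isClosedImmersion_of_surjective _
    rw [← k.liftCoborder_ι]
    infer_instance

theorem ker_eq_bot_of_comp (k : Z ⟶ R) (r : R ⟶ V) [IsClosedImmersion r] (h : (k ≫ r).ker = r.ker) : k.ker = ⊥ := by
  apply Groth.Agent.Picfga.IdealDescent.eq_bot_of_map_eq_ker r
  rw [← h, Scheme.Hom.ker_comp]

/-- Main scheme-level statement. -/
theorem main (m : Z ⟶ V) [IsImmersion m] (r : R ⟶ V) [IsClosedImmersion r] (k : Z ⟶ R) (hk : k ≫ r = m)
    (hr : r.ker = m.ker) (hq : QuasiCompact m ∨ IsReduced Z) :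
    IsOpenImmersion k ∧ DenseRange k ∧ ∀ W : R.Opens, (W : Set R) = Set.range k → CInt.IsSchematicallyDense W := by
  subst hk
  have hk : k.ker = ⊥ := ker_eq_bot_of_comp k r hr.symm
  have : IsImmersion k := IsImmersion.of_comp k r
  have hq' : QuasiCompact k ∨ IsReduced Z := hq.imp_left fun h => by
    have := h
    exact QuasiCompact.of_comp k r
  obtain ⟨h1, h2⟩ := of_ker k hk hq'
  refine ⟨h1, h2, fun W hW => ?_⟩
  rcases hq' with hq | hq
  · obtain rfl : W = k.opensRange := by ext1; exact hW
    have h3 : k.isoOpensRange.hom ≫ k.opensRange.ι = k := by simp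
    have h4 : QuasiCompact k.opensRange.ι := by
      rw [← MorphismProperty.cancel_left_of_respectsIso @QuasiCompact k.isoOpensRange.hom, h3]
      exact hq
    refine DensSch.isSchematicallyDense_of_ker _ ?_
    have h5 := congrArg Scheme.Hom.ker h3
    rw [Scheme.Hom.ker_comp_of_isIso, hk] at h5
    exact h5
  · have hR : IsReduced R := by
      have h1 : IsIso k.imageι := (Scheme.isIso_subschemeι_iff_eq_bot _).2 hk
      have := Groth.Agent.Ega1.ReducedSub.isReduced_image k
      exact isReduced_of_isOpenImmersion (inv k.imageι)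
    refine isSchematicallyDense_of_isReduced ?_
    rw [hW]
    exact h2

end K598.ImmSch
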