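import Groth.Agent.AlgSp.K598.Red
import Groth.Agent.AlgSp.K598.ImmSch

/-!
# More on scheme theoretic images

* `image_eq_K'`: the ideal of the scheme theoretic image (quasi-compact case) on any `h_T ⟶ Y` flat.
* `ofClosed_eq_of_isSchImage`: uniqueness.
* `ker_eq_of_isSchImage`: in a chart of the target, for `f` representable and quasi-compact or with reduced source,
  the ideal of the scheme theoretic image is the kernel.
-/

set_option autoImplicit false
universe u
open CategoryTheory CategoryTheory.Limits AlgebraicGeometry Opposite TopologicalSpace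
open AlgSp K598.Site K598.RepKit K598.ClFam K598.Charts K598.SchImg
open Groth.Agent.RedSub.H647.QCov

namespace K598.SchImg2

variable {S : Scheme.{u}} {X Y Z : Sp S}

/-- A morphism is representable if its composite with a monomorphism is. -/
theorem representable_of_comp_mono' {i : Z ⟶ Y} [Mono i] {F : Sp S} (g : F ⟶ Z)
    (h : Representable (g ≫ i)) : Representable g := by
  intro T g'
  obtain ⟨V, snd, fst, sq⟩ := h (g' ≫ i)
  refine ⟨V, snd, fst, ?_⟩
  have h1 : fst ≫ g = (yon S).map snd ≫ g' := by
    rw [← cancel_mono i, Category.assoc, Category.assoc]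
    exact sq.w
  refine ⟨⟨h1⟩, ⟨PullbackCone.IsLimit.mk h1 (fun s => sq.lift s.fst s.snd ?_) ?_ ?_ ?_⟩⟩
  · rw [← Category.assoc, ← Category.assoc, s.condition]
  · intro s
    exact sq.lift_fst _ _ _
  · intro s
    exact sq.lift_snd _ _ _
  · intro s m h2 h3
    exact sq.hom_ext (by rw [h2, sq.lift_fst]) (by rw [h3, sq.lift_snd])

theorem isQCov_affineOpens (T : Over S) :
    IsQCov (fun U : T.left.affineOpens => (opnι T U.1).left) :=
  IsQCov.of_flat (fun U => inferInstanceAs (Flat U.1.ι)) (fun U => inferInstanceAs (LocallyOfFinitePresentation U.1.ι))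
    fun t => by
      obtain ⟨U, hU, htU, -⟩ := exists_isAffineOpen_mem_and_subset (x := t) (U := ⊤) trivial
      exact ⟨⟨U, hU⟩, ⟨t, htU⟩, rfl⟩

theorem repWith_flat_opn {T : Over S} {g : (yon S).obj T ⟶ Y} (hg : RepWith @Flat g) (U : T.left.Opens) :
    RepWith @Flat ((yon S).map (opnι T U) ≫ g) :=
  MorphismProperty.comp_mem _ _ _ (repWith_flat_of_etale (repWith_etale_opnι T U)) hg

theorem image_eq_K' (hY : IsAlgSpace Y) {f : X ⟶ Y} (hf : IsQuasiCompactMor f) {i : Z ⟶ Y}
    (hi : RepWith @IsClosedImmersion i) (h : IsSchImage f i) {T : Over S} (g : (yon S).obj T ⟶ Y)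
    (hg : RepWith @Flat g) : (ofClosed i hi).I g = K f g := by
  apply le_antisymm
  · refine le_K fun W w b hw => ?_
    rw [← (ofClosed i hi).comap, ← hw]
    exact (factors_iff_vanish f i hi).1 h.2.1 W w
  · refine (isQCov_affineOpens T).ideal_le fun U => ?_
    have e1 := (ofClosed i hi).comap (opnι T U.1) g
    rw [← e1, image_eq_K hY hf hi h ((yon S).map (opnι T U.1) ≫ g) (T := opn T U.1) U.2 (repWith_flat_opn hg U.1)]
    refine le_K fun W w b hw => ?_
    rw [← Scheme.IdealSheafData.comap_comp]
    refine K_mem f g W w (b ≫ opnι T U.1) ?_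
    rw [hw, Functor.map_comp, Category.assoc]

theorem ofClosed_eq_of_isSchImage (hY : IsAlgSpace Y) {Z' : Sp S} {f : X ⟶ Y} {i : Z ⟶ Y} {i' : Z' ⟶ Y}
    (h : IsSchImage f i) (h' : IsSchImage f i') : ofClosed i h.1 = ofClosed i' h'.1 := by
  obtain ⟨_, h1, h2⟩ := (isSchImage_iff hY f i).1 h
  obtain ⟨_, h3, h4⟩ := (isSchImage_iff hY f i').1 h'
  exact le_antisymm (h4 _ h1) (h2 _ h3)

/-- The ideal of the scheme theoretic image of a morphism from a reduced space. -/
theorem image_eq_of_reduced (hY : IsAlgSpace Y) {f : X ⟶ Y} (hX : IsReducedSp X) {i : Z ⟶ Y}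
    (h : IsSchImage f i) {T : Over S} (g : (yon S).obj T ⟶ Y) (hg : RepWith @Etale g) :
    (ofClosed i h.1).I g =
      Scheme.IdealSheafData.vanishingIdeal (Red.preC ⟨closure (Set.range (Points.map f)), isClosed_closure⟩ g) := by
  obtain ⟨A, hA⟩ := Red.exists_redFam hY ⟨closure (Set.range (Points.map f)), isClosed_closure⟩
  have h1 := Red.isSchImage_of_isReducedSp hX (Red.isRedInduced_of_fam hY _ A hA)
  rw [ofClosed_eq_of_isSchImage hY h h1, ofClosed_ι, hA T g hg]

/-- In an etale chart of the target, for a representable morphism which is quasi-compact or has reduced source,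
the ideal of the scheme theoretic image is the kernel. -/
theorem ker_eq_of_isSchImage (hY : IsAlgSpace Y) {f : X ⟶ Y} (hq : IsQuasiCompactMor f ∨ IsReducedSp X) {i : Z ⟶ Y}
    (h : IsSchImage f i) {T : Over S} (g : (yon S).obj T ⟶ Y) (hg : RepWith @Etale g) {U : Over S}
    {fst : (yon S).obj U ⟶ X} {m : U ⟶ T} (sq : IsPullback fst ((yon S).map m) f g) :
    (ofClosed i h.1).I g = m.left.ker := by
  rcases hq with hq | hX
  · rw [image_eq_K' hY hq h.1 h g (repWith_flat_of_etale hg), K_eq_ker sq (𝟙 _) (repWith_id _ _) (repWith_id _ _) m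
      (Category.id_comp _)]
  · have hr : IsReduced U.left := K612.Reduced.isReduced_of_isReducedSp hX fst (repWith_of_isPullback sq.flip hg)
    rw [image_eq_of_reduced hY hX h g hg, ImmSch.ker_eq_vanishingIdeal_of_isReduced]
    congr 1
    ext t
    change Points.ofPt g t ∈ closure (Set.range (Points.map f)) ↔ t ∈ closure (Set.range m.left)
    have h1 := K609.Points.preimage_image_map sq Set.univ
    rw [Set.image_univ, Set.preimage_univ, Set.image_univ] at h1
    rw [← h1, ← (K609.Points.isOpenMap_ofPt hg).preimage_closure_eq_closure_preimage (Points.continuous_ofPt g)]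
    rfl

end K598.SchImg2
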