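import Groth.Agent.AlgSp.K598.SchImg2
import Groth.Agent.Sga3C.GenPts
import Mathlib.AlgebraicGeometry.ValuativeCriterion

/-!
# Valuation rings into closures of images

* `exists_valuation`: if `f x'` specializes to `y`, some valuation ring of the residue field of `x'` maps to `Y` with
  closed point going to `y`, compatible with `Spec κ(x') ⟶ X ⟶ Y`.
-/

set_option autoImplicit false
universe u
open CategoryTheory CategoryTheory.Limits AlgebraicGeometry Opposite TopologicalSpace
open AlgSp K598.Site K598.RepKit K598.ClFam K598.Charts K598.SchImg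

namespace K598.ValImg

open IsLocalRing in
/-- If `f x'` specializes to `y`, some valuation ring of `κ(x')` dominates `y`. -/
theorem exists_valuation {X Y : Scheme.{u}} (f : X ⟶ Y) (x' : X) (y : Y) (h : f x' ⤳ y) :
    ∃ (A : ValuationSubring (X.residueField x')) (g : Spec (CommRingCat.of A) ⟶ Y),
      X.fromSpecResidueField x' ≫ f =
        Spec.map (CommRingCat.ofHom (algebraMap A (X.residueField x'))) ≫ g ∧
      g (closedPoint A) = y := by
  let stalk_y_to_residue_x' : Y.presheaf.stalk y ⟶ X.residueField x' :=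
    Y.presheaf.stalkSpecializes h ≫ f.stalkMap x' ≫ X.residue x'
  obtain ⟨A, hA, hA_local⟩ := exists_factor_valuationRing stalk_y_to_residue_x'.hom
  let stalk_y_to_A : Y.presheaf.stalk y ⟶ .of A :=
    CommRingCat.ofHom (stalk_y_to_residue_x'.hom.codRestrict _ hA)
  refine ⟨A, Spec.map stalk_y_to_A ≫ Y.fromSpecStalk y, ?_, ?_⟩
  · rw [Scheme.fromSpecResidueField, Category.assoc, ← Scheme.SpecMap_stalkMap_fromSpecStalk,
      ← Scheme.SpecMap_stalkSpecializes_fromSpecStalk h]
    simp_rw [← Spec.map_comp_assoc]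
    rfl
  · have h1 : Spec.map stalk_y_to_A (closedPoint A) = closedPoint (Y.presheaf.stalk y) :=
      comap_closedPoint (S := A) (stalk_y_to_residue_x'.hom.codRestrict A.toSubring hA)
    rw [Scheme.Hom.comp_apply, h1, Y.fromSpecStalk_closedPoint]

/-- `Spec` of the fraction field of a valuation subring of `K` is `Spec K`. -/
theorem exists_fractionRing {K : Type u} [Field K] (A : ValuationSubring K) :
    ∃ e : Spec (CommRingCat.of (FractionRing A)) ⟶ Spec (CommRingCat.of K),
      e ≫ Spec.map (CommRingCat.ofHom (algebraMap A K)) =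
        Spec.map (CommRingCat.ofHom (algebraMap A (FractionRing A))) := by
  let e := FractionRing.algEquiv A K
  refine ⟨Spec.map (CommRingCat.ofHom e.symm.toAlgHom.toRingHom), ?_⟩
  rw [← Spec.map_comp, ← CommRingCat.ofHom_comp]
  congr 2
  exact e.symm.toAlgHom.comp_algebraMap

variable {S : Scheme.{u}} {X Y Z : Sp S}

/-- Every point of the scheme theoretic image of a quasi-compact morphism is the image of the closed point of a
valuation ring whose generic point lifts to the source. -/
theorem main (hY : IsAlgSpace Y) {f : X ⟶ Y} (hf : IsQuasiCompactMor f) {i : Z ⟶ Y} (h : IsSchImage f i)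
    (z : Points Z) :
    ∃ (A : Type u) (_ : CommRing A) (_ : IsDomain A) (_ : ValuationRing A) (str : Spec (CommRingCat.of A) ⟶ S)
      (a : (AlgSp.yon S).obj (Over.mk str) ⟶ Z)
      (x : (AlgSp.yon S).obj (Over.mk (Spec.map (CommRingCat.ofHom (algebraMap A (FractionRing A))) ≫ str)) ⟶ X),
      AlgSp.Points.ofPt a (IsLocalRing.closedPoint A) = z ∧
      x ≫ f = (AlgSp.yon S).map (Over.homMk (Spec.map (CommRingCat.ofHom (algebraMap A (FractionRing A)))) rfl) ≫
        a ≫ i := by
  have hi := h.1
  obtain ⟨ι, V, p, h1, h2, h3⟩ := exists_affine_charts hY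
  obtain ⟨j, v, hv⟩ := h3 (Points.map i z)
  have hj := h2 j
  obtain ⟨C, snd, fst, sq⟩ := hi.1 (p j)
  have hsnd : IsClosedImmersion snd.left := hi.2 _ _ _ sq
  obtain ⟨c', hc1, hc2⟩ := K609.Points.exists_of_isPullback sq z (Points.ofScheme _ v) hv.symm
  obtain ⟨c, rfl⟩ := K609.Points.ofScheme_surjective _ c'
  rw [K609.Points.map_yon_map_ofScheme] at hc2
  have hc3 : snd.left c = v := K609.Points.ofScheme_injective _ hc2
  -- a chart of the pullback of the source
  obtain ⟨P, fst', snd', sq', U, u, q, hu, hus, hq, hqc⟩ := exists_qc_chart hf (p j)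
  have e1 : snd.left.ker = q.left.ker := by
    rw [← K_eq_ker sq' u hu hus q hq, ← image_eq_K hY hf hi h (p j) hj (repWith_flat_of_etale (h1 j)),
      ofClosed_eq hi sq]
  have e2 : v ∈ closure (Set.range q.left) := by
    rw [← Scheme.Hom.support_ker, ← e1, Scheme.Hom.support_ker]
    exact subset_closure ⟨c, hc3⟩
  obtain ⟨w, hw⟩ := Groth.Agent.Sga3C.GenPts.exists_specializes_of_mem_closure_range q.left v e2
  obtain ⟨A, g, hg1, hg2⟩ := exists_valuation q.left w v hw
  obtain ⟨e, he⟩ := exists_fractionRing A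
  -- the generic point maps to `X`
  let str : Spec (CommRingCat.of A) ⟶ S := g ≫ (V j).hom
  let TA : Over S := Over.mk str
  let TK : Over S := Over.mk (Spec.map (CommRingCat.ofHom (algebraMap A (FractionRing A))) ≫ str)
  let r : TK ⟶ TA := Over.homMk (Spec.map (CommRingCat.ofHom (algebraMap A (FractionRing A)))) rfl
  let g' : TA ⟶ V j := Over.homMk g rfl
  have e3 : (e ≫ U.left.fromSpecResidueField w) ≫ q.left = r.left ≫ g := by
    rw [Category.assoc, hg1, ← Category.assoc, he]
    rfl
  let k : TK ⟶ U := Over.homMk (e ≫ U.left.fromSpecResidueField w) (by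
    rw [← Over.w q, ← Category.assoc, e3, Category.assoc]
    rfl)
  have e4 : k ≫ q = r ≫ g' := by
    ext1
    exact e3
  let x : (yon S).obj TK ⟶ X := (yon S).map k ≫ u ≫ fst'
  have e5 : x ≫ f = (yon S).map (r ≫ g') ≫ p j := by
    rw [← e4, Functor.map_comp, ← hq]
    simp only [x, Category.assoc, sq'.w]
  -- it lies in `Z`
  obtain ⟨x', hx'⟩ := h.2.1
  have e6 : (x ≫ x') ≫ i = (yon S).map (r ≫ g') ≫ p j := by
    rw [Category.assoc, hx', e5]
  let y := (yon S).preimage (sq.lift (x ≫ x') ((yon S).map (r ≫ g')) e6)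
  have hy1 : y ≫ snd = r ≫ g' := (yon S).map_injective (by
    rw [(yon S).map_comp, (yon S).map_preimage, sq.lift_snd])
  have hy2 : (yon S).map y ≫ fst = x ≫ x' := by
    rw [(yon S).map_preimage, sq.lift_fst]
  have hval := ((IsProper.eq_valuativeCriterion ▸ (inferInstance : IsProper snd.left)) :
    (ValuativeCriterion ⊓ @QuasiCompact ⊓ @QuasiSeparated ⊓ @LocallyOfFiniteType) snd.left).1.1.1.existence
  have hsq : CommSq y.left (Spec.map (CommRingCat.ofHom (algebraMap A (FractionRing A)))) snd.left g :=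
    ⟨congrArg CommaMorphism.left hy1⟩
  obtain ⟨l, hl1, hl2⟩ : ∃ l : Spec (CommRingCat.of A) ⟶ C.left,
      Spec.map (CommRingCat.ofHom (algebraMap A (FractionRing A))) ≫ l = y.left ∧ l ≫ snd.left = g := by
    obtain ⟨l, hl1, hl2⟩ := (hval (ValuativeCommSq.mk (R := A) (K := FractionRing A) y.left g hsq)).exists_lift
    exact ⟨l, hl1, hl2⟩
  let l' : TA ⟶ C := Over.homMk l (by
    rw [← Over.w snd, ← Category.assoc, hl2]
    rfl)
  have e7 : l' ≫ snd = g' := by
    ext1
    exact hl2
  refine ⟨A, inferInstance, inferInstance, inferInstance, str, (yon S).map l' ≫ fst, x, ?_, ?_⟩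
  · have h2 : l (IsLocalRing.closedPoint A) = c := by
      refine snd.left.isClosedEmbedding.injective ?_
      rw [← Scheme.Hom.comp_apply, hl2, hg2, hc3]
    rw [← hc1, ← h2]
    exact K609.Points.ofPt_yon_map_comp l' fst _
  · change x ≫ f = (yon S).map r ≫ ((yon S).map l' ≫ fst) ≫ i
    rw [e5, Category.assoc, sq.w, ← Category.assoc ((yon S).map l'), ← Functor.map_comp, e7, Functor.map_comp,
      Category.assoc]

end K598.ValImg
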